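import Cfsg.Agent.H40.OC.Two
import Cfsg.Agent.Characters.Linear
import Cfsg.Agent.Blocks.Deflate
import Cfsg.Agent.Blocks.CentralProduct

/-!
# The congruence `mr χ ≡ χ 1 mod p` (S4884, own characteristic; helper40)
-/

set_option autoImplicit false

open scoped ComplexConjugate
open Cfsg

namespace Cfsg.Agent.H40.OC

open Cfsg.Agent.OddOrderCharacters.Clifford Cfsg.Agent.Characters Cfsg.Agent.Characters.Core

/-- mean over a normal subgroup contained in the kernels of the linear characters of a `p`-group -/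
theorem mean_irr {U' : Type*} [Group U'] [Fintype U'] {p : ℕ} [hp : Fact p.Prime] (hU : IsPGroup p U') (N : Subgroup U') [N.Normal]
    [Fintype N] (hN : ∀ f : U' →* ℂˣ, ∀ n ∈ N, f n = 1) {χ : U' → ℂ} (hχ : IsIrrCharacter U' χ) :
    ∃ e k : ℕ, (Fintype.card N : ℂ)⁻¹ * ∑ n : N, χ n = e ∧ χ 1 = ((e + p * k : ℕ) : ℂ) := by
  obtain ⟨d, hd0, hd⟩ := isIrr_apply_one hχ
  have hN0 : (Fintype.card N : ℂ) ≠ 0 := by
    have : 0 < Fintype.card N := Fintype.card_pos
    exact_mod_cast this.ne'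
  have hdeg : d = 1 ∨ p ∣ d := by
    have h1 := Cfsg.Agent.Blocks.CentralProduct.degree_dvd_card hχ hd
    obtain ⟨m, hm⟩ := IsPGroup.iff_card.1 hU
    rw [hm] at h1
    obtain ⟨k, -, hk⟩ := (Nat.dvd_prime_pow hp.out).1 h1
    rcases Nat.eq_zero_or_pos k with h0 | h0
    · left; rw [hk, h0, pow_zero]
    · right; rw [hk]; exact dvd_pow_self p h0.ne'
  by_cases hs : ∑ n : N, χ n = 0
  · rcases hdeg with h1 | h1
    · exfalso
      obtain ⟨f, hf⟩ := Linear.exists_hom_of_isIrrCharacter hχ (by rw [hd, h1, Nat.cast_one])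
      rw [hf] at hs
      have h2 : ∑ n : N, ((f n : ℂˣ) : ℂ) = ∑ n : N, (1 : ℂ) :=
        Finset.sum_congr rfl fun n _ => by rw [hN f n n.2, Units.val_one]
      rw [h2, Finset.sum_const, Finset.card_univ, nsmul_eq_mul, mul_one] at hs
      exact hN0 hs
    · obtain ⟨k, hk⟩ := h1
      exact ⟨0, k, by rw [hs, mul_zero, Nat.cast_zero], by rw [hd, hk, zero_add]⟩
  · obtain ⟨χ', hχ'⟩ := Cfsg.Agent.Blocks.Deflate.exists_deflation N χ hχ hs
    refine ⟨d, 0, ?_, by rw [mul_zero, add_zero, hd]⟩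
    have h1 : ∀ n : N, χ n = χ 1 := by
      intro n
      rw [hχ']
      simp only [Function.comp_apply]
      have h2 : (QuotientGroup.mk (n : U') : U' ⧸ N) = QuotientGroup.mk (1 : U') := by
        rw [QuotientGroup.mk_one]
        exact (QuotientGroup.eq_one_iff (n : U')).2 n.2
      rw [h2]
    rw [Finset.sum_congr rfl fun n _ => h1 n, Finset.sum_const, Finset.card_univ, nsmul_eq_mul,
      inv_mul_cancel_left₀ hN0, hd]

theorem mean_char {U' : Type*} [Group U'] [Fintype U'] {p : ℕ} [hp : Fact p.Prime] (hU : IsPGroup p U') (N : Subgroup U') [N.Normal]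
    [Fintype N] (hN : ∀ f : U' →* ℂˣ, ∀ n ∈ N, f n = 1) {χ : U' → ℂ} (hχ : IsCharacter U' χ) :
    ∃ e k : ℕ, (Fintype.card N : ℂ)⁻¹ * ∑ n : N, χ n = e ∧ χ 1 = ((e + p * k : ℕ) : ℂ) := by
  classical
  have := finite_irr (G := U')
  have := Fintype.ofFinite (IrrCharacter U')
  obtain ⟨m, hm⟩ := exists_nat_comb hχ
  choose e k he hk using fun ψ : IrrCharacter U' => mean_irr hU N hN ψ.2
  refine ⟨∑ ψ, m ψ * e ψ, ∑ ψ, m ψ * k ψ, ?_, ?_⟩
  · rw [hm]
    simp only [Finset.sum_apply, nsmul_eq_mul, Pi.mul_apply, Pi.natCast_apply]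
    rw [Finset.sum_comm, Finset.mul_sum]
    push_cast
    refine Finset.sum_congr rfl fun ψ _ => ?_
    rw [← Finset.mul_sum, ← he ψ]
    ring
  · rw [hm]
    simp only [Finset.sum_apply, nsmul_eq_mul, Pi.mul_apply, Pi.natCast_apply]
    push_cast
    rw [Finset.mul_sum, ← Finset.sum_add_distrib]
    refine Finset.sum_congr rfl fun ψ _ => ?_
    rw [hk ψ]
    push_cast
    ring

variable {I Y : Type*} [Group Y] {U T : Subgroup Y} {D : I → Subgroup Y}

/-- **the mean over the regular elements is an integer** -/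
theorem mr_isInt [Finite Y] [Fintype I] (H : Sys U T D) [Fintype U] [Fintype T] {lam : I → (↥U →* ℂˣ)}
    (hl : Lam U D lam) {χ : Y → ℂ} (hχ : IsCharacter ↥U fun u => χ u)
    (hφ : ∀ t ∈ T, ∀ u ∈ U, χ (t⁻¹ * u * t) = χ u) :
    ∃ m : Finset I → ℕ, (∀ J, classInner (fun u : U => χ u) (fun u : U => (psi lam J u : ℂ)) = m J) ∧
      mr U D χ = ((∑ J : Finset I, (-1) ^ J.card * (m J : ℤ) : ℤ) : ℂ) := by
  choose m hm using fun J : Finset I => classInner_isNat hχ (Linear.isCharacter_hom (psi lam J))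
  refine ⟨m, hm, ?_⟩
  rw [mr_eq H hl hφ]
  push_cast
  exact Finset.sum_congr rfl fun J _ => by rw [hm J]

/-- **the mean over the regular elements is congruent to the degree** -/
theorem mr_congr [Finite Y] [Fintype I] (H : Sys U T D) [Fintype U] [Fintype T] {lam : I → (↥U →* ℂˣ)}
    (hl : Lam U D lam) {p : ℕ} [hp : Fact p.Prime] (hU : IsPGroup p U) (hN : ∀ f : ↥U →* ℂˣ, ∀ u : U, (∀ i, (u : Y) ∈ D i) → f u = 1)
    {χ : Y → ℂ} (hχ : IsCharacter ↥U fun u => χ u) (hφ : ∀ t ∈ T, ∀ u ∈ U, χ (t⁻¹ * u * t) = χ u) :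
    ∃ (c : ℤ) (d : ℕ), mr U D χ = c ∧ χ 1 = d ∧ (p : ℤ) ∣ d - c := by
  classical
  obtain ⟨m, hm, hc⟩ := mr_isInt H hl hχ hφ
  let N : Subgroup ↥U :=
    { carrier := {u | ∀ i, (u : Y) ∈ D i}
      mul_mem' := fun {a b} ha hb i => mul_mem (ha i) (hb i)
      one_mem' := fun i => one_mem _
      inv_mem' := fun {a} ha i => inv_mem (ha i) }
  have hNn : N.Normal := ⟨fun n hn g i => (Subgroup.mem_normalizer_iff.1 (H.uD i g.2) _).1 (hn i)⟩
  have : Fintype N := Fintype.ofFinite _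
  obtain ⟨e, k, he, hk⟩ := mean_char hU N (fun f n hn => hN f n hn) hχ
  have h1 := sum_mean' H hl hφ
  have h2 : ∑ n : N, χ ((n : U) : Y) = ∑ u ∈ Fx U D, χ u := by
    refine (Finset.sum_subtype (Fx U D) (p := fun u => u ∈ N) (fun u => ?_) (fun u : U => χ u)).symm
    rw [mem_Fx]
    rfl
  have h3 : (Fintype.card N : ℂ) = (Fx U D).card := by
    rw [Fintype.card_of_subtype (Fx U D) (fun u => by rw [mem_Fx]; rfl)]
  rw [h2, h3, inv_mul_eq_div] at he
  rw [he] at h1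
  refine ⟨_, e + p * k, hc, hk, ?_⟩
  have hq : ∀ i, (p : ℤ) ∣ (qi U D i : ℤ) := by
    intro i
    obtain ⟨a, ha⟩ := IsPGroup.iff_card.1 hU
    have h4 : qi U D i ∣ p ^ a := by
      rw [← ha]
      exact Dvd.intro_left _ (((D i).subgroupOf U).card_mul_index)
    obtain ⟨b, -, hb⟩ := (Nat.dvd_prime_pow hp.out).1 h4
    rcases Nat.eq_zero_or_pos b with h0 | h0
    · exfalso
      rw [h0, pow_zero] at hb
      obtain ⟨x, hx, hxD⟩ := H.ne i
      exact hxD ((Subgroup.relIndex_eq_one.1 hb) hx)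
    · rw [hb]
      exact_mod_cast dvd_pow_self p h0.ne'
  have h4 : ((∑ J : Finset I, (∏ i ∈ J, ((qi U D i : ℤ) - 1)) * (m J : ℤ) : ℤ) : ℂ) = ((e : ℤ) : ℂ) := by
    rw [Int.cast_natCast, ← h1]
    push_cast
    exact Finset.sum_congr rfl fun J _ => by rw [hm J]
  have h5 : ∑ J : Finset I, (∏ i ∈ J, ((qi U D i : ℤ) - 1)) * (m J : ℤ) = (e : ℤ) := by exact_mod_cast h4
  have h6 : ∀ J : Finset I, (p : ℤ) ∣ (∏ i ∈ J, ((qi U D i : ℤ) - 1)) - (-1) ^ J.card := by
    intro J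
    rw [← Finset.prod_const, ← Int.modEq_iff_dvd]
    refine (Int.ModEq.prod fun i _ => ?_)
    rw [Int.modEq_iff_dvd]
    have := hq i
    simpa using this
  have h7 : (((e + p * k : ℕ) : ℤ)) - ∑ J : Finset I, (-1) ^ J.card * (m J : ℤ) =
      (∑ J : Finset I, ((∏ i ∈ J, ((qi U D i : ℤ) - 1)) - (-1) ^ J.card) * (m J : ℤ)) + p * k := by
    simp only [sub_mul, Finset.sum_sub_distrib, h5]
    push_cast
    ring
  rw [h7]
  refine dvd_add (Finset.dvd_sum fun J _ => Dvd.dvd.mul_right (h6 J) _) (Dvd.intro _ rfl)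

/-- the mean of the trivial character -/
theorem mr_one [Finite Y] [Fintype I] (H : Sys U T D) [Fintype U] : mr U D (fun _ => (1 : ℂ)) = 1 := by
  rw [mr_def, Finset.sum_const, nsmul_eq_mul, mul_one, div_self]
  exact_mod_cast H.reg_nonempty

end Cfsg.Agent.H40.OC
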