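import Cfsg.Agent.H40.OC.Cor
import Cfsg.Agent.H40.OC.Cong

/-!
# The systems of coordinates of the standard Levi subgroups (S4884, own characteristic; helper40)

`co R D i : U →* Multiplicative (F i)`, `DV R D V i` its kernel in `V`;
`sysV` : `Sys V T (DV R D V)`; `sysU`, `sysJ`.
-/

set_option autoImplicit false

open Cfsg

namespace Cfsg.Agent.H40.OC

open Cfsg.Agent.H53.HC Cfsg.Agent.H641.Gow Cfsg.Agent.H148.GG

open CoxeterSystem Cfsg.Agent.ChevalleyStructure.CoxeterGeom Cfsg.Agent.Tits.Roots Cfsg.Agent.Tits.Core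
  Cfsg.Agent.Tits.Exchange Cfsg.Agent.Nodes.Reps Cfsg.Agent.Nodes.BNOf Cfsg.Agent.Nodes.StabComb
  Cfsg.Agent.Nodes.Bruhat Cfsg.Agent.Nodes.OppDec Cfsg.Agent.Nodes.LeviDec

variable {I W Y : Type*} [Fintype I] [DecidableEq I] [Group W] [Group Y] {M : CoxeterMatrix I}
  {cs : CoxeterSystem M W} {A : I → I → ℤ} {h : IsCartan M A} {p : ℕ} {T : Subgroup Y} {n : I → Y}
  {X : (I → ℤ) → Subgroup Y}

variable (R : RGD cs h p T n X) {F : I → Type*} [∀ i, Field (F i)] (D : Adj T X F)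

/-- the coordinate `i` in the field `F i` -/
noncomputable def co [Finite W] (i : I) : ↥(UU cs h X) →* Multiplicative (F i) := (D.x i).comp (cor R i)

theorem co_apply [Finite W] (i : I) (u : ↥(UU cs h X)) : co R D i u = D.x i (cor R i u) := rfl

theorem cor_ne_one [Finite W] {i : I} {u : ↥(UU cs h X)} (h1 : co R D i u ≠ 1) : cor R i u ≠ 1 := by
  intro h2
  exact h1 (by rw [co_apply, h2, map_one])

theorem co_T [Finite W] (i : I) {t u : Y} (ht : t ∈ T) (hu : u ∈ UU cs h X) :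
    Multiplicative.toAdd (co R D i ⟨t * u * t⁻¹, T_conj_UU R ht hu⟩) =
      (D.a i ⟨t, ht⟩ : F i) * Multiplicative.toAdd (co R D i ⟨u, hu⟩) := by
  rw [co_apply, co_apply]
  have h1 := D.act i ⟨t, ht⟩ (cor R i ⟨u, hu⟩) (T_conj_X R i ht (cor R i ⟨u, hu⟩).2)
  rw [← h1]
  congr 2
  exact Subtype.ext (cor_T R i ht hu)

theorem co_ne [Finite W] {i j : I} (hij : j ≠ i) {x : Y} (hx : x ∈ X (sr i)) (hm : x ∈ UU cs h X) :
    co R D j ⟨x, hm⟩ = 1 := by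
  rw [co_apply, cor_ne R hij hx hm, map_one]

/-- the kernel of the coordinate `i` on `V` -/
noncomputable def DV [Finite W] (V : Subgroup Y) (i : I) : Subgroup Y :=
  ((co R D i).ker.map (UU cs h X).subtype) ⊓ V

theorem mem_DV [Finite W] {V : Subgroup Y} {i : I} {u : Y} :
    u ∈ DV R D V i ↔ (∃ hu : u ∈ UU cs h X, co R D i ⟨u, hu⟩ = 1) ∧ u ∈ V := by
  unfold DV
  rw [Subgroup.mem_inf, Subgroup.mem_map]
  refine and_congr_left fun _ => ?_
  constructor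
  · rintro ⟨⟨v, hv⟩, hv1, rfl⟩
    exact ⟨hv, hv1⟩
  · rintro ⟨hu, h1⟩
    exact ⟨⟨u, hu⟩, h1, rfl⟩

theorem mem_DV' [Finite W] {V : Subgroup Y} {i : I} {u : Y} (hu : u ∈ UU cs h X) (hV : u ∈ V) :
    u ∈ DV R D V i ↔ co R D i ⟨u, hu⟩ = 1 := by
  rw [mem_DV]
  exact ⟨fun h1 => h1.1.2, fun h1 => ⟨⟨hu, h1⟩, hV⟩⟩

/-- **The coordinates of a `T`-invariant subgroup of `U` containing simple root groups.** -/
theorem sysV [Finite W] {K : Type*} (ι : K → I) (hι : Function.Injective ι) {V : Subgroup Y} (hV : V ≤ UU cs h X)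
    (hX : ∀ k, X (sr (ι k)) ≤ V) (hT : T ≤ Subgroup.normalizer (V : Set Y)) :
    Sys V T (fun k => DV R D V (ι k)) where
  tU := hT
  le k := inf_le_right
  uD k := by
    intro g hg
    rw [Subgroup.mem_normalizer_iff]
    have key : ∀ g ∈ V, ∀ u ∈ DV R D V (ι k), g * u * g⁻¹ ∈ DV R D V (ι k) := by
      intro g hg u hu
      obtain ⟨⟨hu1, hu2⟩, hu3⟩ := (mem_DV R D).1 hu
      rw [mem_DV' R D (mul_mem (mul_mem (hV hg) hu1) (inv_mem (hV hg))) (mul_mem (mul_mem hg hu3) (inv_mem hg))]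
      have h1 : (⟨g * u * g⁻¹, mul_mem (mul_mem (hV hg) hu1) (inv_mem (hV hg))⟩ : ↥(UU cs h X)) =
        ⟨g, hV hg⟩ * ⟨u, hu1⟩ * (⟨g, hV hg⟩ : ↥(UU cs h X))⁻¹ := rfl
      rw [h1, map_mul, map_mul, hu2, mul_one, map_inv, mul_inv_cancel]
    intro u
    refine ⟨key g hg u, fun hu => ?_⟩
    have := key g⁻¹ (inv_mem hg) _ hu
    have e : g⁻¹ * (g * u * g⁻¹) * g⁻¹⁻¹ = u := by group
    rwa [e] at this
  tD k := by
    intro t ht
    rw [Subgroup.mem_normalizer_iff]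
    have key : ∀ t ∈ T, ∀ u ∈ DV R D V (ι k), t * u * t⁻¹ ∈ DV R D V (ι k) := by
      intro t ht u hu
      obtain ⟨⟨hu1, hu2⟩, hu3⟩ := (mem_DV R D).1 hu
      rw [mem_DV' R D (T_conj_UU R ht hu1) ((Subgroup.mem_normalizer_iff.1 (hT ht) u).1 hu3)]
      have h1 := co_T R D (ι k) ht hu1
      rw [hu2, toAdd_one, mul_zero] at h1
      exact Multiplicative.toAdd.injective h1
    intro u
    refine ⟨key t ht u, fun hu => ?_⟩
    have := key t⁻¹ (inv_mem ht) _ hu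
    have e : t⁻¹ * (t * u * t⁻¹) * t⁻¹⁻¹ = u := by group
    rwa [e] at this
  co k a ha := by
    refine ⟨cor R (ι k) ⟨a, hV ha⟩, hX k (cor R (ι k) ⟨a, hV ha⟩).2, ?_, ?_⟩
    · have hm : ((cor R (ι k) ⟨a, hV ha⟩ : X (sr (ι k))) : Y) ∈ UU cs h X := X_le_UU _ (cor R (ι k) ⟨a, hV ha⟩).2
      rw [mem_DV' R D (mul_mem (inv_mem hm) (hV ha)) (mul_mem (inv_mem (hX k (cor R (ι k) ⟨a, hV ha⟩).2)) ha)]
      have h1 : (⟨((cor R (ι k) ⟨a, hV ha⟩ : X (sr (ι k))) : Y)⁻¹ * a, mul_mem (inv_mem hm) (hV ha)⟩ : ↥(UU cs h X)) =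
        (⟨_, hm⟩ : ↥(UU cs h X))⁻¹ * ⟨a, hV ha⟩ := rfl
      rw [h1, co_apply, map_mul, map_inv, cor_X R (ι k) (cor R (ι k) ⟨a, hV ha⟩).2 hm, Subtype.coe_eta, inv_mul_cancel,
        map_one]
    · intro j hj
      rw [mem_DV' R D (X_le_UU _ (cor R (ι k) ⟨a, hV ha⟩).2) (hX k (cor R (ι k) ⟨a, hV ha⟩).2)]
      exact co_ne R D (fun he => hj (hι he)) (cor R (ι k) ⟨a, hV ha⟩).2 _
  ne k := by
    obtain ⟨x, hx⟩ := D.surjX (ι k) (Multiplicative.ofAdd 1)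
    refine ⟨x, hX k x.2, fun h1 => ?_⟩
    rw [mem_DV' R D (X_le_UU _ x.2) (hX k x.2), co_apply, cor_X R (ι k) x.2, Subtype.coe_eta, hx] at h1
    exact one_ne_zero (congrArg Multiplicative.toAdd h1)
  tr := by
    intro a ha b hb ha' hb'
    classical
    have hna : ∀ k, Multiplicative.toAdd (co R D (ι k) ⟨a, hV ha⟩) ≠ 0 := by
      intro k h1
      exact ha' k ((mem_DV' R D (hV ha) ha).2 (Multiplicative.toAdd.injective h1))
    have hnb : ∀ k, Multiplicative.toAdd (co R D (ι k) ⟨b, hV hb⟩) ≠ 0 := by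
      intro k h1
      exact hb' k ((mem_DV' R D (hV hb) hb).2 (Multiplicative.toAdd.injective h1))
    let c : ∀ i, (F i)ˣ := fun i =>
      if h1 : Multiplicative.toAdd (co R D i ⟨a, hV ha⟩) ≠ 0 ∧ Multiplicative.toAdd (co R D i ⟨b, hV hb⟩) ≠ 0 then
        Units.mk0 _ h1.1 / Units.mk0 _ h1.2 else 1
    obtain ⟨⟨t, ht⟩, hc⟩ := D.surjT c
    refine ⟨t, ht, fun k => ?_⟩
    have h2 : t⁻¹ * a * t ∈ UU cs h X := by
      have := T_conj_UU R (inv_mem ht) (hV ha)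
      rwa [inv_inv] at this
    have h2' : t⁻¹ * a * t ∈ V := by
      have := (Subgroup.mem_normalizer_iff.1 (hT (inv_mem ht)) a).1 ha
      rwa [inv_inv] at this
    rw [mem_DV' R D (mul_mem (inv_mem h2) (hV hb)) (mul_mem (inv_mem h2') hb)]
    have h3 : (⟨(t⁻¹ * a * t)⁻¹ * b, mul_mem (inv_mem h2) (hV hb)⟩ : ↥(UU cs h X)) =
      (⟨_, h2⟩ : ↥(UU cs h X))⁻¹ * ⟨b, hV hb⟩ := rfl
    rw [h3, map_mul, map_inv, inv_mul_eq_one]
    have h4 := co_T R D (ι k) (inv_mem ht) (hV ha)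
    have h5 : (⟨t⁻¹ * a * t, h2⟩ : ↥(UU cs h X)) = ⟨t⁻¹ * a * t⁻¹⁻¹, T_conj_UU R (inv_mem ht) (hV ha)⟩ :=
      Subtype.ext (by simp only [inv_inv])
    rw [h5]
    apply Multiplicative.toAdd.injective
    rw [h4]
    have h6 : D.a (ι k) ⟨t⁻¹, inv_mem ht⟩ = (D.a (ι k) ⟨t, ht⟩)⁻¹ := by
      rw [← map_inv]; rfl
    rw [h6, hc (ι k)]
    simp only [c]
    rw [dif_pos ⟨hna k, hnb k⟩, inv_div]
    have h7 := hna k
    have h8 := hnb k
    simp only [Units.val_div_eq_div_val, Units.val_mk0]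
    rw [div_mul_cancel₀ _ h7]

theorem sysU [Finite W] : Sys (UU cs h X) T (fun i : I => DV R D (UU cs h X) i) :=
  sysV R D id Function.injective_id le_rfl X_le_UU R.T_le_normalizer_U

theorem sysJ [Finite W] (J : Set I) : Sys (UJ cs h X J) T (fun i : J => DV R D (UJ cs h X J) i) :=
  sysV R D _ Subtype.val_injective (UJ_le_U J) (fun k => RGD.le_Sup (sr_mem_PosJ k.2))
    (R.T_le_normalizer fun _ hx => hx.1)

end Cfsg.Agent.H40.OC
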