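import Cfsg.Agent.H40.OC.Levi

/-!
# Cuspidal characters and the mean over the regular elements (S4884, own characteristic; helper40)

* `lamN` : the linear characters of the coordinates given by a nondegenerate character of `U_J`;
* `mJ_cusp` : `mJ η = (-1)^|J| [η, ψ]` for cuspidal irreducible `η` and nondegenerate `ψ`.
-/

set_option autoImplicit false

open scoped ComplexConjugate
open Cfsg

namespace Cfsg.Agent.H40.OC

open Cfsg.Agent.OddOrderCharacters.Clifford Cfsg.Agent.Characters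
open Cfsg.Agent.H53.HC Cfsg.Agent.H641.Gow Cfsg.Agent.H148.GG

/-- a linear constituent of a character trivial on a subgroup without fixed points -/
theorem inner_zero {G : Type*} [Group G] [Fintype G] {χ : G → ℂ} (hχ : IsCharacter G χ) (N : Subgroup G) [Fintype N]
    (h0 : ∑ u : N, χ u = 0) (l : G →* ℂˣ) (hl : ∀ u ∈ N, l u = 1) : classInner χ (fun g => (l g : ℂ)) = 0 := by
  by_contra hne
  have hirr : IsIrrCharacter G (fun g => (l g : ℂ)) := Linear.isIrrCharacter_hom l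
  have h1 := isCharacter_sub_irr hχ hirr hne
  have h2 := Core.isCharacter_comp N.subtype h1
  obtain ⟨m, hm⟩ := Core.classInner_isNat h2 (Core.isCharacter_one (G := N))
  have h3 : (Nat.card N : ℂ) ≠ 0 := card_ne_zero'
  rw [classInner_apply] at hm
  have h4 : ∑ u : N, ((χ - fun g => (l g : ℂ)) ∘ N.subtype) u * conj ((1 : N → ℂ) u) = - Nat.card N := by
    have h5 : ∀ u : N, ((χ - fun g => (l g : ℂ)) ∘ N.subtype) u * conj ((1 : N → ℂ) u) = χ u - 1 := by
      intro u
      simp only [Function.comp_apply, Pi.sub_apply, Subgroup.subtype_apply, Pi.one_apply, map_one, mul_one]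
      rw [hl u u.2, Units.val_one]
    rw [Finset.sum_congr rfl fun u _ => h5 u, Finset.sum_sub_distrib, h0, Finset.sum_const, Finset.card_univ,
      nsmul_eq_mul, mul_one, zero_sub, Nat.card_eq_fintype_card]
  rw [h4, mul_neg, inv_mul_cancel₀ h3] at hm
  have h6 : ((m + 1 : ℕ) : ℂ) = 0 := by
    push_cast
    rw [← hm]
    ring
  exact absurd h6 (by exact_mod_cast Nat.succ_ne_zero m)

open CoxeterSystem Cfsg.Agent.ChevalleyStructure.CoxeterGeom Cfsg.Agent.Tits.Roots Cfsg.Agent.Tits.Core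
  Cfsg.Agent.Tits.Exchange Cfsg.Agent.Nodes.Reps Cfsg.Agent.Nodes.BNOf Cfsg.Agent.Nodes.StabComb
  Cfsg.Agent.Nodes.Bruhat Cfsg.Agent.Nodes.OppDec Cfsg.Agent.Nodes.LeviDec

variable {I W Y : Type*} [Fintype I] [DecidableEq I] [Group W] [Group Y] {M : CoxeterMatrix I}
  {cs : CoxeterSystem M W} {A : I → I → ℤ} {h : IsCartan M A} {p : ℕ} {T : Subgroup Y} {n : I → Y}
  {X : (I → ℤ) → Subgroup Y}

variable (R : RGD cs h p T n X) {F : I → Type*} [∀ i, Field (F i)] (D : Adj T X F)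

/-- the linear character of the coordinate `i ∈ J` given by `ψ` -/
noncomputable def lamN [Finite W] {J : Set I} (ψ : ↥(UJ cs h X J) →* ℂˣ) (i : J) : ↥(UJ cs h X J) →* ℂˣ :=
  (ψ.comp (Subgroup.inclusion (X_le_UJ (sr_mem_PosJ i.2)))).comp ((cor R (i : I)).comp (Subgroup.inclusion (UJ_le_U J)))

theorem lamN_apply [Finite W] {J : Set I} (ψ : ↥(UJ cs h X J) →* ℂˣ) (i : J) {u : Y} (hu : u ∈ UJ cs h X J) :
    lamN R ψ i ⟨u, hu⟩ = ψ ⟨cor R (i : I) ⟨u, UJ_le_U J hu⟩,
      X_le_UJ (sr_mem_PosJ i.2) (cor R (i : I) ⟨u, UJ_le_U J hu⟩).2⟩ := rfl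

include D in
theorem lamN_lam [Finite W] {J : Set I} {ψ : ↥(UJ cs h X J) →* ℂˣ} (hψ : Nd cs h X J ψ) :
    Lam (UJ cs h X J) (fun i : J => DV R D (UJ cs h X J) i) (lamN R ψ) where
  one i u hu := by
    obtain ⟨u, huU⟩ := u
    have h1 : co R D i ⟨u, UJ_le_U J huU⟩ = 1 := (mem_DV' R D (UJ_le_U J huU) huU).1 hu
    rw [lamN_apply]
    exact D.lin i (ψ.comp (Subgroup.inclusion (X_le_UJ (sr_mem_PosJ i.2)))) _ h1
  ne i h1 := by
    obtain ⟨u, hu', hu, hne⟩ := hψ.ne i i.2
    apply hne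
    have h2 := DFunLike.congr_fun h1 ⟨u, hu'⟩
    rw [lamN_apply] at h2
    have h3 : cor R (i : I) ⟨u, UJ_le_U J hu'⟩ = ⟨u, hu⟩ := cor_X R i hu _
    simp only [h3] at h2
    exact h2

/-- the product of the coordinate characters is `ψ` -/
theorem psi_lamN [Finite W] {J : Set I} [Fintype J] {ψ : ↥(UJ cs h X J) →* ℂˣ} (hψ : Nd cs h X J ψ) :
    psi (lamN R ψ) Finset.univ = ψ := by
  classical
  refine hom_ext fun x hx u hu' hu => ?_
  unfold psi
  rw [MonoidHom.finsetProd_apply]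
  by_cases hxs : ∃ i, x = sr i
  · obtain ⟨i, rfl⟩ := hxs
    have hi := sr_mem_of_PosJ hx
    rw [Finset.prod_eq_single (⟨i, hi⟩ : J)]
    · rw [lamN_apply]
      have h3 : cor R i ⟨u, UJ_le_U J hu'⟩ = ⟨u, hu⟩ := cor_X R i hu _
      simp only [h3]
    · intro j _ hj
      rw [lamN_apply]
      have h3 : cor R (j : I) ⟨u, UJ_le_U J hu'⟩ = 1 := cor_ne R (fun e => hj (Subtype.ext e)) hu _
      simp only [h3]
      exact map_one ψ
    · intro h3
      exact absurd (Finset.mem_univ _) h3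
  · push Not at hxs
    rw [hψ.triv x hx hxs u hu' hu]
    refine Finset.prod_eq_one fun j _ => ?_
    rw [lamN_apply]
    have h3 : cor R (j : I) ⟨u, UJ_le_U J hu'⟩ = 1 :=
      cor_V R j (RGD.le_Sup (S := RGD.PosNe cs h j) ⟨hx.1, hx.2.1, hxs j⟩ hu) _
    simp only [h3]
    exact map_one ψ

/-- the coordinate characters are trivial on the radicals of the other nodes -/
theorem cor_rad [Finite W] {J : Set I} {i j : I} (hij : j ≠ i) {u : Y} (hu : u ∈ rad cs h X J i) :
    cor R j ⟨u, UJ_le_U J (rad_le_UJ J i hu)⟩ = 1 := by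
  refine cor_V R j (RGD.Sup_mono ?_ hu) _
  rintro x ⟨hx, hx0⟩
  refine ⟨hx.1, hx.2.1, ?_⟩
  rintro rfl
  rw [sr_ne (show i ≠ j from hij.symm)] at hx0
  exact lt_irrefl _ hx0

/-- **The mean of a cuspidal character over the regular elements.** -/
theorem mJ_cusp [Finite W] [Finite Y] {J : Set I} [Fintype J] [Fintype ↥(UJ cs h X J)] {ψ : ↥(UJ cs h X J) →* ℂˣ}
    (hψ : Nd cs h X J ψ) {η : ↥(LJ cs h T X J) → ℂ} (hη : IsCharacter _ η) (hc : CuspL cs h T X J η) :
    mJ R D J η = (-1) ^ Fintype.card J * classInner (η ∘ Subgroup.inclusion (UJ_le_L (cs := cs) (h := h) (T := T) (X := X) (J := J)))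
      (fun u : ↥(UJ cs h X J) => (ψ u : ℂ)) := by
  classical
  have : Fintype T := Fintype.ofFinite _
  have hη' : IsCharacter ↥(UJ cs h X J) (η ∘ Subgroup.inclusion (UJ_le_L (cs := cs) (h := h) (T := T) (X := X) (J := J))) :=
    Core.isCharacter_comp _ hη
  have he : ∀ u : UJ cs h X J, extendByZero (LJ cs h T X J) η (u : Y) =
      (η ∘ Subgroup.inclusion (UJ_le_L (cs := cs) (h := h) (T := T) (X := X) (J := J))) u := fun u =>
    ext_apply_mem _ _ _ (UJ_le_L u.2)
  rw [mJ_eq, mr_eq (sysJ R D J) (lamN_lam R D hψ) (φ := extendByZero (LJ cs h T X J) η) (by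
    intro t ht u hu
    have h1 : t⁻¹ * u * t ∈ LJ cs h T X J := mul_mem (mul_mem (inv_mem (T_le_LJ ht)) (UJ_le_L hu)) (T_le_LJ ht)
    rw [ext_apply_mem _ _ _ (UJ_le_L hu), ext_apply_mem _ _ _ h1]
    have h2 := Core.isCharacter_isClassFunction hη ⟨u, UJ_le_L hu⟩ (⟨t, T_le_LJ ht⟩ : LJ cs h T X J)⁻¹
    rw [inv_inv] at h2
    exact h2)]
  rw [funext he]
  rw [Finset.sum_eq_single Finset.univ]
  · rw [psi_lamN R hψ]
    rfl
  · intro K _ hK
    obtain ⟨i, hi⟩ : ∃ i, i ∉ K := by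
      by_contra hcon
      push Not at hcon
      exact hK (Finset.eq_univ_iff_forall.2 hcon)
    rw [inner_zero hη' ((rad cs h X J i).subgroupOf (UJ cs h X J)) ?_ (psi (lamN R ψ) K) ?_, mul_zero]
    · have : Fintype (rad cs h X J i) := Fintype.ofFinite _
      have h1 := hc i i.2
      rw [← h1]
      refine Fintype.sum_equiv (Subgroup.subgroupOfEquivOfLe (rad_le_UJ J (i : I))).toEquiv _ _ fun u => ?_
      rfl
    · intro u hu
      unfold psi
      rw [MonoidHom.finsetProd_apply]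
      refine Finset.prod_eq_one fun j hj => ?_
      obtain ⟨u, huU⟩ := u
      rw [lamN_apply]
      have h3 : cor R (j : I) ⟨u, UJ_le_U J huU⟩ = 1 :=
        cor_rad R (J := J) (i := i) (fun e => hi (by rwa [← Subtype.ext (a1 := j) (a2 := i) e])) (Subgroup.mem_subgroupOf.1 hu)
      simp only [h3]
      exact map_one ψ
  · intro h3
    exact absurd (Finset.mem_univ _) h3

end Cfsg.Agent.H40.OC
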