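import Cfsg.Agent.Blocks.Osima
import Cfsg.Agent.Blocks.Fong
import Cfsg.Agent.Blocks.Local
import Cfsg.Agent.Blocks.Induced
import Cfsg.Agent.OddOrderCharacters.Clifford

/-!
# Class functions and blocks (S4884, own characteristic; helper40)

`block_sum_mem` : if `|g^G| Θ(g)` lies in the local ideal for every `g` then so does `∑_{χ ∈ B} [Θ, χ] χ(1)`.
-/

set_option autoImplicit false

open scoped ComplexConjugate
open Cfsg

namespace Cfsg.Agent.H40.OC

open Cfsg.Agent.OddOrderCharacters.Clifford Cfsg.Agent.Characters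

theorem block_sum_eq {G : Type*} [Group G] [Fintype G] [Fintype (IrrCharacter G)] (B : Set (IrrCharacter G)) (Θ : G → ℂ) :
    ∑ g, Θ g * blockCoeff B g = ∑ᶠ χ ∈ B, classInner Θ (χ : G → ℂ) * (χ : G → ℂ) 1 := by
  classical
  have h0 : ∑ᶠ χ ∈ B, classInner Θ (χ : G → ℂ) * (χ : G → ℂ) 1 =
      ∑ χ ∈ (Finset.univ : Finset (IrrCharacter G)).filter (fun χ => χ ∈ B), classInner Θ (χ : G → ℂ) * (χ : G → ℂ) 1 := by
    apply finsum_mem_eq_sum_of_inter_support_eq
    congr 1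
    ext χ
    simp
  rw [h0]
  have h1 : ∀ g, Θ g * blockCoeff B g = ∑ χ ∈ (Finset.univ : Finset (IrrCharacter G)).filter (fun χ => χ ∈ B),
      ((Nat.card G : ℂ)⁻¹ * (Θ g * conj ((χ : G → ℂ) g))) * (χ : G → ℂ) 1 := by
    intro g
    rw [Cfsg.Agent.Blocks.Fong.blockCoeff_eq_sum, Finset.mul_sum, Finset.mul_sum]
    refine Finset.sum_congr rfl fun χ _ => ?_
    ring
  rw [Finset.sum_congr rfl fun g _ => h1 g, Finset.sum_comm]
  refine Finset.sum_congr rfl fun χ _ => ?_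
  rw [← Finset.sum_mul, ← Finset.mul_sum]
  rfl

theorem block_sum_mem {G : Type*} [Group G] [Fintype G] {l : ℕ} {M : Ideal AlgInt} (hM : IsPModular l M)
    {B : Set (IrrCharacter G)} (hB : IsPBlock M B) {Θ : G → ℂ} (hΘ : IsClassFunction G Θ)
    (hcl : ∀ g, MemLocalIdeal M (((Subgroup.centralizer ({g} : Set G)).index : ℂ) * Θ g)) :
    MemLocalIdeal M (∑ᶠ χ ∈ B, classInner Θ (χ : G → ℂ) * (χ : G → ℂ) 1) := by
  classical
  have hMp := Cfsg.Agent.Blocks.Local.isPrime_of_isPModular hM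
  have := Core.finite_irr (G := G)
  have := Fintype.ofFinite (IrrCharacter G)
  have : Fintype (ConjClasses G) := Fintype.ofFinite _
  rw [← block_sum_eq]
  have hF : IsClassFunction G (fun g => Θ g * blockCoeff B g) := by
    intro g h
    change Θ (h * g * h⁻¹) * blockCoeff B (h * g * h⁻¹) = Θ g * blockCoeff B g
    rw [hΘ g h, Cfsg.Agent.Blocks.Fong.blockCoeff_isClassFunction B g h]
  rw [Cfsg.Agent.Blocks.Fong.sum_eq_sum_conjClasses hF]
  refine Cfsg.Agent.Blocks.Induced.memLocalIdeal_sum hMp _ _ fun K _ => ?_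
  rw [← mul_assoc]
  exact Cfsg.Agent.Blocks.Local.memLocalIdeal_mul_right (hcl _) (Cfsg.Agent.Blocks.Osima.memLocalRing_blockCoeff hM hB _)

end Cfsg.Agent.H40.OC
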