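import Cfsg.Agent.H40.OC.Cusp
import Cfsg.Agent.H40.OC.Blk
import Cfsg.Agent.Blocks.Basic

/-!
# The block of a prime different from the characteristic (S4884, own characteristic; helper40)

* `IsReg.centralizer_le` : `C(u) ≤ U` for regular `u`;
* `dvd_sum` : `l ∣ ∑_{χ ∈ B} mG χ χ(1)`;
* `exists_block` : if `|mG χ| ≤ 1` for all irreducible `χ` then the principal `l`-block contains a nontrivial character of
  degree prime to `p l`.
-/

set_option autoImplicit false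

open scoped ComplexConjugate
open Cfsg

namespace Cfsg.Agent.H40.OC

open Cfsg.Agent.OddOrderCharacters.Clifford Cfsg.Agent.Characters
open Cfsg.Agent.H53.HC Cfsg.Agent.H641.Gow Cfsg.Agent.H148.GG

open CoxeterSystem Cfsg.Agent.ChevalleyStructure.CoxeterGeom Cfsg.Agent.Tits.Roots Cfsg.Agent.Tits.Core
  Cfsg.Agent.Tits.Exchange Cfsg.Agent.Nodes.Reps Cfsg.Agent.Nodes.BNOf Cfsg.Agent.Nodes.StabComb
  Cfsg.Agent.Nodes.Bruhat Cfsg.Agent.Nodes.OppDec Cfsg.Agent.Nodes.LeviDec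

variable {I W Y : Type*} [Fintype I] [DecidableEq I] [Group W] [Group Y] {M : CoxeterMatrix I}
  {cs : CoxeterSystem M W} {A : I → I → ℤ} {h : IsCartan M A} {p : ℕ} {T : Subgroup Y} {n : I → Y}
  {X : (I → ℤ) → Subgroup Y}

variable (R : RGD cs h p T n X) {F : I → Type*} [∀ i, Field (F i)] (D : Adj T X F)

/-- **the centralizer of a regular element** -/
theorem IsReg.centralizer_le [Finite W] (hG : GG cs h T X = ⊤) (hT : ∀ t : T, (∀ i, D.a i t = 1) → t = 1)
    {u : Y} (hu : IsReg R D u) : Subgroup.centralizer ({u} : Set Y) ≤ UU cs h X := by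
  intro g hg
  rw [Subgroup.mem_centralizer_singleton_iff] at hg
  have h1 : g⁻¹ * u * g = u := by rw [mul_assoc, ← hg, inv_mul_cancel_left]
  have h2 : g ∈ RGD.B cs h T X := hu.mem_B R D (by rw [hG]; exact Subgroup.mem_top g) (by
    rw [h1]; exact RGD.U_le_B hu.1)
  obtain ⟨t, ht, v, hv, rfl⟩ := R.mem_B.1 h2
  have key : (⟨t⁻¹, inv_mem ht⟩ : T) = 1 := by
    refine hT _ fun i => ?_
    have h0 : t⁻¹ * u * t⁻¹⁻¹ ∈ UU cs h X := T_conj_UU R (inv_mem ht) hu.1
    have h3 : (⟨u, hu.1⟩ : ↥(UU cs h X)) = (⟨v, hv⟩ : ↥(UU cs h X))⁻¹ * ⟨t⁻¹ * u * t⁻¹⁻¹, h0⟩ * ⟨v, hv⟩ :=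
      Subtype.ext (by
        simp only [Subgroup.coe_mul, InvMemClass.coe_inv]
        conv_lhs => rw [← h1]
        group)
    have h4 : co R D i ⟨u, hu.1⟩ = co R D i ⟨t⁻¹ * u * t⁻¹⁻¹, h0⟩ := by
      conv_lhs => rw [h3]
      rw [map_mul, map_mul, map_inv, mul_comm, mul_inv_cancel_left]
    have h5 := co_T R D i (inv_mem ht) hu.1
    rw [← h4] at h5
    have h6 : Multiplicative.toAdd (co R D i ⟨u, hu.1⟩) ≠ 0 := fun h7 =>
      hu.2 i (Multiplicative.toAdd.injective h7)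
    apply Units.ext
    rw [Units.val_one]
    exact mul_right_cancel₀ h6 (by rw [← h5, one_mul])
  have h7 : t = 1 := by
    have := congrArg Subtype.val key
    exact inv_eq_one.1 this
  rw [h7, one_mul]
  exact hv

theorem IsReg.not_dvd_centralizer [Finite W] [Finite Y] (hG : GG cs h T X = ⊤) (hT : ∀ t : T, (∀ i, D.a i t = 1) → t = 1)
    [hp : Fact p.Prime] {l : ℕ} (hl : l.Prime) (hlp : l ≠ p)
    {u : Y} (hu : IsReg R D u) : ¬ l ∣ Nat.card (Subgroup.centralizer ({u} : Set Y)) := by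
  intro h1
  obtain ⟨k, hk⟩ := IsPGroup.iff_card.1 (R.isPGroup_Upos)
  have h2 := Subgroup.card_dvd_of_le (hu.centralizer_le R D hG hT)
  rw [hk] at h2
  have h3 := hl.dvd_of_dvd_pow (h1.trans h2)
  exact hlp ((Nat.prime_dvd_prime_iff_eq hl hp.out).1 h3)

theorem IsReg.dvd_index [Finite W] [Finite Y] (hG : GG cs h T X = ⊤) (hT : ∀ t : T, (∀ i, D.a i t = 1) → t = 1)
    [hp : Fact p.Prime] {l : ℕ} (hl : l.Prime) (hlp : l ≠ p) (hY : l ∣ Nat.card Y)
    {u : Y} (hu : IsReg R D u) : l ∣ (Subgroup.centralizer ({u} : Set Y)).index := by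
  have h1 := (Subgroup.centralizer ({u} : Set Y)).card_mul_index
  rw [← h1] at hY
  exact (hl.dvd_mul.1 hY).resolve_left (hu.not_dvd_centralizer R D hG hT hl hlp)

/-- **the block sum** -/
theorem dvd_sum [Finite W] [Finite Y] [∀ i, Finite (F i)] (hG : GG cs h T X = ⊤)
    (hT : ∀ t : T, (∀ i, D.a i t = 1) → t = 1) [hp : Fact p.Prime] {l : ℕ} (hlp : l ≠ p) (hY : l ∣ Nat.card Y)
    {Mi : Ideal AlgInt} (hM : IsPModular l Mi) {B : Set (IrrCharacter Y)} (hB : IsPBlock Mi B) :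
    MemLocalIdeal Mi (∑ᶠ χ ∈ B, mG R D (χ : Y → ℂ) * (χ : Y → ℂ) 1) := by
  classical
  have : Fintype Y := Fintype.ofFinite _
  have hMp := Cfsg.Agent.Blocks.Local.isPrime_of_isPModular hM
  obtain ⟨lam, hl⟩ := exists_lam R D
  have h1 := block_sum_mem hM hB (isClass_Xi lam) (fun g => by
    by_cases hg : ∃ x, IsReg R D (x⁻¹ * g * x)
    · obtain ⟨x, hx⟩ := hg
      have h2 : Xi lam g = ∏ i, (Nat.card (F i) : ℂ) := by
        rw [← conj_T_of_class (isClass_Xi lam) x g]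
        exact Xi_reg R D hG hT hl hx
      have h3 : (Subgroup.centralizer ({g} : Set Y)).index = (Subgroup.centralizer ({x⁻¹ * g * x} : Set Y)).index := by
        have := Cfsg.Agent.Blocks.Fong.centralizer_index_conj g x⁻¹
        rw [inv_inv] at this
        exact this.symm
      have h4 := hx.dvd_index R D hG hT hM.1 hlp hY
      rw [← h3] at h4
      rw [h2]
      have h5 : ((Subgroup.centralizer ({g} : Set Y)).index : ℂ) * ∏ i, (Nat.card (F i) : ℂ) =
          (((Subgroup.centralizer ({g} : Set Y)).index * ∏ i, Nat.card (F i) : ℕ) : ℂ) := by push_cast; rfl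
      rw [h5, Cfsg.Agent.Blocks.Local.memLocalIdeal_natCast_iff hM]
      exact Dvd.dvd.mul_right h4 _
    · push Not at hg
      rw [Xi_eq_zero R D hl hg, mul_zero]
      exact Cfsg.Agent.Blocks.Induced.memLocalIdeal_zero hMp)
  have h2 : ∀ χ : IrrCharacter Y, classInner (Xi lam) (χ : Y → ℂ) = mG R D (χ : Y → ℂ) := by
    intro χ
    obtain ⟨c, hc⟩ := mG_isInt R D (Core.isIrr_isCharacter χ.2)
    rw [← Core.classInner_conj_symm, classInner_Xi R D hl (Core.isIrr_isClassFunction χ.2), hc, map_intCast]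
  simp only [h2] at h1
  exact h1

/-- the mean as an alternating sum -/
theorem mG_eq_sum [Finite W] [Finite Y] [Fintype (UU cs h X)] {lam : I → (↥(UU cs h X) →* ℂˣ)}
    (hl : Lam (UU cs h X) (DU R D) lam) {χ : Y → ℂ} (hχ : IsClassFunction Y χ) :
    mG R D χ = ∑ J : Finset I, (-1) ^ J.card *
      classInner (fun u : UU cs h X => χ u) (fun u : UU cs h X => (psi lam J u : ℂ)) := by
  classical
  have : Fintype T := Fintype.ofFinite _
  rw [mG_eq]
  exact mr_eq (sysU R D) hl fun t _ u _ => conj_T_of_class hχ t u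

/-- **the principal block of a prime different from the characteristic**, if the mean of every character of degree divisible
by `p` is zero -/
theorem exists_block_of [Finite W] [Finite Y] [∀ i, Finite (F i)] (hG : GG cs h T X = ⊤)
    (hT : ∀ t : T, (∀ i, D.a i t = 1) → t = 1) [hp : Fact p.Prime] {l : ℕ} (hlp : l ≠ p) (hY : l ∣ Nat.card Y)
    (h0 : ∀ χ : IrrCharacter Y, p ∣ charDegree (χ : Y → ℂ) → mG R D (χ : Y → ℂ) = 0)
    {Mi : Ideal AlgInt} (hM : IsPModular l Mi) : ∃ χ : IrrCharacter Y, χ ∈ principalBlock Mi Y ∧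
      (χ : Y → ℂ) ≠ (fun _ => (1 : ℂ)) ∧ ¬ l ∣ charDegree (χ : Y → ℂ) ∧ ¬ p ∣ charDegree (χ : Y → ℂ) := by
  classical
  have hMp := Cfsg.Agent.Blocks.Local.isPrime_of_isPModular hM
  have := Core.finite_irr (G := Y)
  have := Fintype.ofFinite (IrrCharacter Y)
  let o : IrrCharacter Y := ⟨fun _ => (1 : ℂ), Cfsg.Agent.Blocks.Basic.isIrrCharacter_one⟩
  have hB : IsPBlock Mi (principalBlock Mi Y) := ⟨o, rfl⟩
  have ho : o ∈ principalBlock Mi Y := Cfsg.Agent.Blocks.Basic.mem_blockOf_self o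
  have h1 := dvd_sum R D hG hT hlp hY hM hB
  by_contra hcon
  push Not at hcon
  have h2 : ∀ χ : IrrCharacter Y, χ ∈ principalBlock Mi Y → χ ≠ o →
      MemLocalIdeal Mi (mG R D (χ : Y → ℂ) * (χ : Y → ℂ) 1) := by
    intro χ hχ hχo
    obtain ⟨c, hc1⟩ := mG_isInt R D (Core.isIrr_isCharacter χ.2)
    obtain ⟨d, hd⟩ := Core.isCharacter_apply_one (Core.isIrr_isCharacter χ.2)
    have hd' : charDegree (χ : Y → ℂ) = d := Cfsg.Agent.Blocks.Basic.charDegree_of_eq hd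
    by_cases hl : l ∣ d
    · rw [hc1, hd]
      have h3 : (c : ℂ) * (d : ℂ) = ((c * (d : ℤ) : ℤ) : ℂ) := by push_cast; rfl
      rw [h3, Cfsg.Agent.Blocks.Local.memLocalIdeal_intCast_iff hM]
      exact Dvd.dvd.mul_left (by exact_mod_cast hl) _
    · have h3 := hcon χ hχ (fun h4 => hχo (Subtype.ext h4)) (by rwa [hd'])
      rw [h0 χ h3, zero_mul]
      exact Cfsg.Agent.Blocks.Induced.memLocalIdeal_zero hMp
  have h3 : ∑ᶠ χ ∈ principalBlock Mi Y, mG R D (χ : Y → ℂ) * (χ : Y → ℂ) 1 =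
      ∑ χ ∈ (Finset.univ : Finset (IrrCharacter Y)).filter (fun χ => χ ∈ principalBlock Mi Y),
        mG R D (χ : Y → ℂ) * (χ : Y → ℂ) 1 := by
    apply finsum_mem_eq_sum_of_inter_support_eq
    congr 1
    ext χ
    simp
  rw [h3, ← Finset.add_sum_erase _ _ (a := o) (by rw [Finset.mem_filter]; exact ⟨Finset.mem_univ _, ho⟩)] at h1
  have h4 : MemLocalIdeal Mi (∑ χ ∈ ((Finset.univ : Finset (IrrCharacter Y)).filter
      (fun χ => χ ∈ principalBlock Mi Y)).erase o, mG R D (χ : Y → ℂ) * (χ : Y → ℂ) 1) := by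
    refine Cfsg.Agent.Blocks.Induced.memLocalIdeal_sum hMp _ _ fun χ hχ => ?_
    rw [Finset.mem_erase, Finset.mem_filter] at hχ
    exact h2 χ hχ.2.2 hχ.1
  have h5 := Cfsg.Agent.Blocks.Induced.memLocalIdeal_sub hMp h1 h4
  rw [add_sub_cancel_right] at h5
  have h6 : mG R D ((o : IrrCharacter Y) : Y → ℂ) * ((o : IrrCharacter Y) : Y → ℂ) 1 = ((1 : ℕ) : ℂ) := by
    change mG R D (fun _ => (1 : ℂ)) * 1 = _
    rw [mG_one, mul_one, Nat.cast_one]
  rw [h6, Cfsg.Agent.Blocks.Local.memLocalIdeal_natCast_iff hM] at h5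
  exact hM.1.one_lt.ne' (Nat.dvd_one.1 h5)

/-- small means of the characters of degree divisible by `p` vanish -/
theorem mG_zero_of_dvd [Finite W] [Finite Y] [∀ i, Finite (F i)] [hp : Fact p.Prime]
    (hN : ∀ f : ↥(UU cs h X) →* ℂˣ, ∀ u, (∀ i, co R D i u = 1) → f u = 1) {χ : IrrCharacter Y}
    (hc : mG R D (χ : Y → ℂ) = 0 ∨ mG R D (χ : Y → ℂ) = 1 ∨ mG R D (χ : Y → ℂ) = -1)
    (h3 : p ∣ charDegree (χ : Y → ℂ)) : mG R D (χ : Y → ℂ) = 0 := by
  obtain ⟨c, d, hc1, hd, hcd⟩ := mG_congr R D hN (Core.isIrr_isCharacter χ.2)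
  have hd' : charDegree (χ : Y → ℂ) = d := Cfsg.Agent.Blocks.Basic.charDegree_of_eq hd
  rw [hd'] at h3
  have h5 : (p : ℤ) ∣ c := by
    have h6 : (p : ℤ) ∣ (d : ℤ) := by exact_mod_cast h3
    have := dvd_sub h6 hcd
    rwa [sub_sub_cancel] at this
  rcases hc with h6 | h6 | h6
  · exact h6
  · exfalso
    rw [hc1] at h6
    have h7 : c = 1 := by exact_mod_cast h6
    rw [h7] at h5
    exact hp.out.one_lt.ne' (by
      have := Int.natAbs_dvd_natAbs.2 h5
      simpa using this)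
  · exfalso
    rw [hc1] at h6
    have h7 : c = -1 := by
      have : ((c : ℤ) : ℂ) = ((-1 : ℤ) : ℂ) := by rw [h6]; push_cast; rfl
      exact_mod_cast this
    rw [h7] at h5
    exact hp.out.one_lt.ne' (by
      have := Int.natAbs_dvd_natAbs.2 h5
      simpa using this)

/-- **the principal block of a prime different from the characteristic** -/
theorem exists_block [Finite W] [Finite Y] [∀ i, Finite (F i)] (hG : GG cs h T X = ⊤)
    (hT : ∀ t : T, (∀ i, D.a i t = 1) → t = 1) [hp : Fact p.Prime] {l : ℕ} (hlp : l ≠ p) (hY : l ∣ Nat.card Y)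
    (hN : ∀ f : ↥(UU cs h X) →* ℂˣ, ∀ u, (∀ i, co R D i u = 1) → f u = 1)
    (hc : ∀ χ : IrrCharacter Y, mG R D (χ : Y → ℂ) = 0 ∨ mG R D (χ : Y → ℂ) = 1 ∨ mG R D (χ : Y → ℂ) = -1)
    {Mi : Ideal AlgInt} (hM : IsPModular l Mi) : ∃ χ : IrrCharacter Y, χ ∈ principalBlock Mi Y ∧
      (χ : Y → ℂ) ≠ (fun _ => (1 : ℂ)) ∧ ¬ l ∣ charDegree (χ : Y → ℂ) ∧ ¬ p ∣ charDegree (χ : Y → ℂ) :=
  exists_block_of R D hG hT hlp hY (fun χ h3 => mG_zero_of_dvd R D hN (hc χ) h3) hM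

end Cfsg.Agent.H40.OC
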