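import Cfsg.Agent.H641.Gow.Rgd
import Cfsg.Agent.H148.GG.Adj

/-!
# Coordinates of the unipotent group (S4884, own characteristic; helper40)

`cor R i` : `U →* X (sr i)`, the identity on `X (sr i)`, trivial on the other positive root groups.
* `mem_B_of_conj` : `u ∈ U` with nontrivial coordinates, `g⁻¹ u g ∈ U` imply `g ∈ B`.
-/

set_option autoImplicit false

open Cfsg

namespace Cfsg.Agent.H40.OC

open Cfsg.Agent.H53.HC Cfsg.Agent.H641.Gow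

open CoxeterSystem Cfsg.Agent.ChevalleyStructure.CoxeterGeom Cfsg.Agent.Tits.Roots Cfsg.Agent.Tits.Core
  Cfsg.Agent.Tits.Exchange Cfsg.Agent.Nodes.Reps Cfsg.Agent.Nodes.BNOf Cfsg.Agent.Nodes.StabComb
  Cfsg.Agent.Nodes.Bruhat Cfsg.Agent.Nodes.OppDec Cfsg.Agent.Nodes.LeviDec

variable {I W Y : Type*} [Fintype I] [DecidableEq I] [Group W] [Group Y] {M : CoxeterMatrix I}
  {cs : CoxeterSystem M W} {A : I → I → ℤ} {h : IsCartan M A} {p : ℕ} {T : Subgroup Y} {n : I → Y}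
  {X : (I → ℤ) → Subgroup Y}

/-- the unipotent radical of the Borel subgroup -/
abbrev UU (cs : CoxeterSystem M W) (h : IsCartan M A) (X : (I → ℤ) → Subgroup Y) : Subgroup Y :=
  RGD.Sup X (RGD.Pos cs h)

theorem UU_le_PJ (J : Set I) : UU cs h X ≤ PJ cs h T X J := le_trans RGD.U_le_B B_le_PJ

theorem VJ_singleton (i : I) : VJ cs h X {i} = RGD.Sup X (RGD.PosNe cs h i) := by
  unfold VJ
  congr 1
  ext x
  constructor
  · rintro ⟨hx, h0, k, hk, hk0⟩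
    refine ⟨hx, h0, ?_⟩
    rintro rfl
    rw [sr_ne (show k ≠ i from hk)] at hk0
    exact lt_irrefl _ hk0
  · rintro ⟨hx, h0, hi⟩
    obtain ⟨k, hk, hk0⟩ := RGD.exists_coeff hx h0 hi
    exact ⟨hx, h0, k, hk, hk0⟩

theorem X_le_UU (i : I) : X (sr i) ≤ UU cs h X := RGD.le_Sup (S := RGD.Pos cs h) ⟨isRoot_sr cs h i, sr_nonneg i⟩

theorem X_le_Li (i : I) : X (sr i) ≤ LJ cs h T X {i} := X_le_LJ (PosJ_subset _ (sr_mem_PosJ rfl))

theorem PosNe_le_UU (i : I) : RGD.Sup X (RGD.PosNe cs h i) ≤ UU cs h X := RGD.Sup_mono fun _ hz => ⟨hz.1, hz.2.1⟩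

variable (R : RGD cs h p T n X)

include R

/-- the decomposition `U = X_i V_i` -/
theorem dec (i : I) {u : Y} (hu : u ∈ UU cs h X) :
    ∃ x ∈ X (sr i), ∃ v ∈ RGD.Sup X (RGD.PosNe cs h i), u = x * v := by
  have h1 : u ∈ ((X (sr i) ⊔ RGD.Sup X (RGD.PosNe cs h i) : Subgroup Y) : Set Y) := by
    rw [← R.Upos_eq i]; exact hu
  rw [Subgroup.coe_mul_of_left_le_normalizer_right _ _ (R.X_le_normalizer_V i), Set.mem_mul] at h1
  obtain ⟨x, hx, v, hv, e⟩ := h1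
  exact ⟨x, hx, v, hv, e.symm⟩

theorem projL_dec [Finite W] (i : I) {x v : Y} (hx : x ∈ X (sr i)) (hv : v ∈ RGD.Sup X (RGD.PosNe cs h i))
    (hm : x * v ∈ PJ cs h T X {i}) : ((projL R {i} ⟨x * v, hm⟩ : LJ cs h T X {i}) : Y) = x := by
  have hv' : v ∈ VJ cs h X {i} := by rw [VJ_singleton]; exact hv
  have e : (⟨x * v, hm⟩ : PJ cs h T X {i}) = ⟨x, LJ_le_PJ (X_le_Li i hx)⟩ * ⟨v, VJ_le_PJ hv'⟩ := rfl
  rw [e, map_mul, projL_L R (X_le_Li i hx), projL_V R hv', mul_one]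

theorem projL_mem [Finite W] (i : I) {u : Y} (hu : u ∈ UU cs h X) :
    ((projL R {i} ⟨u, UU_le_PJ _ hu⟩ : LJ cs h T X {i}) : Y) ∈ X (sr i) := by
  obtain ⟨x, hx, v, hv, rfl⟩ := dec R i hu
  rw [projL_dec R i hx hv]
  exact hx

/-- **the coordinates of `U`** -/
noncomputable def cor [Finite W] (i : I) : ↥(UU cs h X) →* ↥(X (sr i)) where
  toFun u := ⟨_, projL_mem R i u.2⟩
  map_one' := Subtype.ext (by
    have : (⟨((1 : ↥(UU cs h X)) : Y), UU_le_PJ _ (1 : ↥(UU cs h X)).2⟩ : PJ cs h T X {i}) = 1 := rfl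
    change ((projL R {i} _ : LJ cs h T X {i}) : Y) = 1
    rw [this, map_one]; rfl)
  map_mul' u v := Subtype.ext (by
    have : (⟨((u * v : ↥(UU cs h X)) : Y), UU_le_PJ _ (u * v : ↥(UU cs h X)).2⟩ : PJ cs h T X {i}) =
      ⟨u, UU_le_PJ _ u.2⟩ * ⟨v, UU_le_PJ _ v.2⟩ := rfl
    change ((projL R {i} _ : LJ cs h T X {i}) : Y) = _
    rw [this, map_mul]; rfl)

theorem cor_mul [Finite W] (i : I) {x v : Y} (hx : x ∈ X (sr i)) (hv : v ∈ RGD.Sup X (RGD.PosNe cs h i))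
    (hm : x * v ∈ UU cs h X) : cor R i ⟨x * v, hm⟩ = ⟨x, hx⟩ := Subtype.ext (projL_dec R i hx hv (UU_le_PJ _ hm))

theorem cor_X [Finite W] (i : I) {x : Y} (hx : x ∈ X (sr i)) (hm : x ∈ UU cs h X) : cor R i ⟨x, hm⟩ = ⟨x, hx⟩ := by
  have := cor_mul R i hx (one_mem _) (by rw [mul_one]; exact hm)
  simpa using this

theorem cor_V [Finite W] (i : I) {v : Y} (hv : v ∈ RGD.Sup X (RGD.PosNe cs h i)) (hm : v ∈ UU cs h X) :
    cor R i ⟨v, hm⟩ = 1 := by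
  have := cor_mul R i (one_mem _) hv (by rw [one_mul]; exact hm)
  have h1 : (⟨1 * v, by rw [one_mul]; exact hm⟩ : ↥(UU cs h X)) = ⟨v, hm⟩ := Subtype.ext (one_mul v)
  rw [h1] at this
  rw [this]
  rfl

/-- the coordinate `i` of an element of another simple root group -/
theorem cor_ne [Finite W] {i j : I} (hij : j ≠ i) {x : Y} (hx : x ∈ X (sr i)) (hm : x ∈ UU cs h X) :
    cor R j ⟨x, hm⟩ = 1 := by
  refine cor_V R j (RGD.le_Sup (S := RGD.PosNe cs h j) ⟨isRoot_sr cs h i, sr_nonneg i, ?_⟩ hx) hm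
  intro he
  have := congrFun he j
  rw [sr_self, sr_ne hij] at this
  exact absurd this (by decide)

theorem T_conj_X (i : I) {t u : Y} (ht : t ∈ T) (hu : u ∈ X (sr i)) : t * u * t⁻¹ ∈ X (sr i) := by
  have := R.tor _ (isRoot_sr cs h i) t ht
  rw [← this]
  exact conj_mem_cj.2 hu

theorem T_conj_UU {t u : Y} (ht : t ∈ T) (hu : u ∈ UU cs h X) : t * u * t⁻¹ ∈ UU cs h X :=
  (Subgroup.mem_normalizer_iff.1 (R.T_le_normalizer_U ht) u).1 hu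

/-- equivariance of the coordinates -/
theorem cor_T [Finite W] (i : I) {t u : Y} (ht : t ∈ T) (hu : u ∈ UU cs h X) :
    ((cor R i ⟨t * u * t⁻¹, T_conj_UU R ht hu⟩ : X (sr i)) : Y) = t * (cor R i ⟨u, hu⟩ : X (sr i)) * t⁻¹ := by
  obtain ⟨x, hx, v, hv, rfl⟩ := dec R i hu
  rw [cor_mul R i hx hv]
  have hv' : t * v * t⁻¹ ∈ RGD.Sup X (RGD.PosNe cs h i) :=
    (Subgroup.mem_normalizer_iff.1 (R.T_le_normalizer (S := RGD.PosNe cs h i) (fun _ hx => hx.1) ht) v).1 hv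
  have e : t * (x * v) * t⁻¹ = (t * x * t⁻¹) * (t * v * t⁻¹) := by group
  have h1 : (⟨t * (x * v) * t⁻¹, T_conj_UU R ht hu⟩ : ↥(UU cs h X)) =
      ⟨(t * x * t⁻¹) * (t * v * t⁻¹), by rw [← e]; exact T_conj_UU R ht hu⟩ := Subtype.ext e
  rw [h1, cor_mul R i (T_conj_X R i ht hx) hv']

/-- the kernel of the coordinate `i` -/
theorem mem_V_of_cor [Finite W] {i : I} {u : Y} (hu : u ∈ UU cs h X) (h1 : cor R i ⟨u, hu⟩ = 1) :
    u ∈ RGD.Sup X (RGD.PosNe cs h i) := by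
  obtain ⟨x, hx, v, hv, rfl⟩ := dec R i hu
  rw [cor_mul R i hx hv] at h1
  have h2 : x = 1 := congrArg Subtype.val h1
  rw [h2, one_mul]
  exact hv

/-- conjugation by elements of `B` preserves the vanishing of coordinates -/
theorem cor_B [Finite W] (i : I) {b u : Y} (hb : b ∈ RGD.B cs h T X) (hu : u ∈ UU cs h X)
    (hbu : b⁻¹ * u * b ∈ UU cs h X) : cor R i ⟨b⁻¹ * u * b, hbu⟩ = 1 ↔ cor R i ⟨u, hu⟩ = 1 := by
  obtain ⟨t, ht, v, hv, rfl⟩ := R.mem_B.1 hb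
  have h1 : t⁻¹ * u * t⁻¹⁻¹ ∈ UU cs h X := T_conj_UU R (inv_mem ht) hu
  have h2 : (⟨(t * v)⁻¹ * u * (t * v), hbu⟩ : ↥(UU cs h X)) =
      (⟨v, hv⟩ : ↥(UU cs h X))⁻¹ * ⟨t⁻¹ * u * t⁻¹⁻¹, h1⟩ * ⟨v, hv⟩ := Subtype.ext (by
        simp only [Subgroup.coe_mul, InvMemClass.coe_inv]
        group)
  rw [h2, map_mul, map_mul, map_inv, mul_assoc, inv_mul_eq_one, right_eq_mul]
  constructor
  · intro h3
    have h4 := cor_T R i (inv_mem ht) hu
    have h5 : ((cor R i ⟨t⁻¹ * u * t⁻¹⁻¹, T_conj_UU R (inv_mem ht) hu⟩ : X (sr i)) : Y) = 1 := by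
      rw [show cor R i ⟨t⁻¹ * u * t⁻¹⁻¹, T_conj_UU R (inv_mem ht) hu⟩ = 1 from h3]; rfl
    rw [h4] at h5
    apply Subtype.ext
    have h6 : ((cor R i ⟨u, hu⟩ : X (sr i)) : Y) = t * (t⁻¹ * (cor R i ⟨u, hu⟩ : X (sr i)) * t⁻¹⁻¹) * t⁻¹ := by group
    rw [h6, h5]
    simp
  · intro h3
    apply Subtype.ext
    have h4 := cor_T R i (inv_mem ht) hu
    change ((cor R i ⟨t⁻¹ * u * t⁻¹⁻¹, T_conj_UU R (inv_mem ht) hu⟩ : X (sr i)) : Y) = 1
    rw [h4, h3]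
    simp

/-- **F1.** A regular element of `U` is conjugated into `U` only by elements of `B`. -/
theorem mem_B_of_conj [Finite W] {u g : Y} (hg : g ∈ GG cs h T X) (hu : u ∈ UU cs h X)
    (hr : ∀ i, cor R i ⟨u, hu⟩ ≠ 1) (hgu : g⁻¹ * u * g ∈ RGD.B cs h T X) : g ∈ RGD.B cs h T X := by
  obtain ⟨w, hw⟩ := (mem_GG R).1 hg
  obtain ⟨b, hb, k, hk, b', hb', e⟩ : ∃ b ∈ RGD.B cs h T X, ∃ k, Rp cs R.nsys w k ∧ ∃ b' ∈ RGD.B cs h T X,
      g = b * k * b' := by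
    obtain ⟨b, hb, k, hk, b', hb', e⟩ := hw
    exact ⟨b, hb, k, hk, b', hb', e⟩
  have hN : b⁻¹ * u * b ∈ UU cs h X := by
    have := (Subgroup.mem_normalizer_iff.1 (inv_mem (R.B_le_normalizer_U hb)) u).1 hu
    rwa [inv_inv] at this
  have h1 : k⁻¹ * (b⁻¹ * u * b) * k ∈ RGD.B cs h T X := by
    have e2 : k⁻¹ * (b⁻¹ * u * b) * k = b' * (g⁻¹ * u * g) * b'⁻¹ := by rw [e]; group
    rw [e2]
    exact mul_mem (mul_mem hb' hgu) (inv_mem hb')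
  have h2 := mem_PW_of_conj R hk hN h1
  have h3 : w⁻¹ = 1 := by
    refine Cfsg.Agent.H53.HC.eq_one_of_nonneg (cs := cs) (h := h) fun i => ?_
    by_contra hcon
    refine hr i ((cor_B R i hb hu hN).1 (cor_V R i ?_ hN))
    refine RGD.Sup_mono ?_ h2
    intro x hx
    refine ⟨hx.1, hx.2.1, ?_⟩
    rintro rfl
    exact hcon hx.2.2
  have h4 : w = 1 := inv_eq_one.1 h3
  rw [h4] at hk
  rw [e]
  exact mul_mem (mul_mem hb (RGD.T_le_B hk.mem_of_one)) hb'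

end Cfsg.Agent.H40.OC
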