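import Cfsg.Agent.H40.OC.Xi

/-!
# The norm of `Xi` (S4884, own characteristic; helper40)

* `exists_lam` : linear characters of the coordinates exist;
* `kap_eq` : `|T| |U| / |Reg| = ∏ |F i|` if `T → ∏ (F i)ˣ` is injective;
* `sum_sq` : `∑ (mG χ)^2 = ∏ |F i|`;
* `mG_int` : `mG χ` is an integer congruent to `χ 1` modulo `p`.
-/

set_option autoImplicit false

open scoped ComplexConjugate
open Cfsg

namespace Cfsg.Agent.H40.OC

open Cfsg.Agent.OddOrderCharacters.Clifford Cfsg.Agent.Characters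
open Cfsg.Agent.H53.HC Cfsg.Agent.H641.Gow Cfsg.Agent.H148.GG

open CoxeterSystem Cfsg.Agent.ChevalleyStructure.CoxeterGeom Cfsg.Agent.Tits.Roots Cfsg.Agent.Tits.Core
  Cfsg.Agent.Tits.Exchange Cfsg.Agent.Nodes.Reps Cfsg.Agent.Nodes.BNOf Cfsg.Agent.Nodes.StabComb
  Cfsg.Agent.Nodes.Bruhat Cfsg.Agent.Nodes.OppDec Cfsg.Agent.Nodes.LeviDec

variable {I W Y : Type*} [Fintype I] [DecidableEq I] [Group W] [Group Y] {M : CoxeterMatrix I}
  {cs : CoxeterSystem M W} {A : I → I → ℤ} {h : IsCartan M A} {p : ℕ} {T : Subgroup Y} {n : I → Y}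
  {X : (I → ℤ) → Subgroup Y}

variable (R : RGD cs h p T n X) {F : I → Type*} [∀ i, Field (F i)] (D : Adj T X F)

theorem co_surjective [Finite W] (i : I) : Function.Surjective (co R D i) := by
  intro s
  obtain ⟨x, hx⟩ := D.surjX i s
  refine ⟨⟨x, X_le_UU i x.2⟩, ?_⟩
  rw [co_apply, cor_X R i x.2, Subtype.coe_eta, hx]

/-- a nontrivial linear character of the additive group of `F i` -/
theorem exists_char (K : Type*) [Field K] [Finite K] : ∃ e : Multiplicative K →* ℂˣ, e ≠ 1 := by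
  have h1 : (Multiplicative.ofAdd (1 : K)) ≠ 1 := fun h => one_ne_zero (congrArg Multiplicative.toAdd h)
  obtain ⟨e, he⟩ := CommGroup.exists_apply_ne_one_of_hasEnoughRootsOfUnity (Multiplicative K) ℂ h1
  exact ⟨e, fun h2 => he (by rw [h2]; rfl)⟩

theorem comp_co_ne_one [Finite W] {i : I} {e : Multiplicative (F i) →* ℂˣ} (he : e ≠ 1) : e.comp (co R D i) ≠ 1 := by
  intro h1
  apply he
  ext s
  obtain ⟨u, rfl⟩ := co_surjective R D i s
  exact congrArg (fun f : ↥(UU cs h X) →* ℂˣ => ((f u : ℂˣ) : ℂ)) h1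

theorem exists_lam [Finite W] [∀ i, Finite (F i)] :
    ∃ lam : I → (↥(UU cs h X) →* ℂˣ), Lam (UU cs h X) (DU R D) lam := by
  choose e he using fun i => exists_char (F i)
  refine ⟨fun i => (e i).comp (co R D i), ⟨fun i u hu => ?_, fun i => comp_co_ne_one R D (he i)⟩⟩
  rw [MonoidHom.comp_apply, (mem_DV' R D u.2 u.2).1 hu, map_one]

theorem qi_eq [Finite W] (i : I) : qi (UU cs h X) (DU R D) i = Nat.card (F i) := by
  have h1 : (DV R D (UU cs h X) i).subgroupOf (UU cs h X) = (co R D i).ker := by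
    ext u
    rw [Subgroup.mem_subgroupOf, mem_DV' R D u.2 u.2]
    rfl
  unfold qi Subgroup.relIndex
  rw [h1, Subgroup.index_ker, MonoidHom.range_eq_top.2 (co_surjective R D i), Subgroup.card_top]
  rfl

/-- the order of the torus -/
theorem card_T [Finite Y] [∀ i, Finite (F i)] (hT : ∀ t : T, (∀ i, D.a i t = 1) → t = 1) :
    (Nat.card T : ℂ) = ∏ i, ((Nat.card (F i) : ℂ) - 1) := by
  classical
  have : ∀ i, Fintype (F i) := fun i => Fintype.ofFinite _
  let f : T →* (∀ i, (F i)ˣ) := MonoidHom.pi D.a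
  have hb : Function.Bijective f := by
    constructor
    · rw [injective_iff_map_eq_one]
      intro t ht
      exact hT t fun i => congrFun ht i
    · intro c
      obtain ⟨t, ht⟩ := D.surjT c
      exact ⟨t, funext ht⟩
  rw [Nat.card_congr (Equiv.ofBijective f hb), Nat.card_pi]
  push_cast
  refine Finset.prod_congr rfl fun i _ => ?_
  rw [Nat.card_eq_fintype_card, Fintype.card_units, Nat.cast_sub Fintype.card_pos, Nat.card_eq_fintype_card, Nat.cast_one]

/-- the value of `Xi` at the regular elements -/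
theorem kap_eq [Finite W] [Finite Y] [∀ i, Finite (F i)] (hT : ∀ t : T, (∀ i, D.a i t = 1) → t = 1)
    [Fintype T] [Fintype (UU cs h X)] :
    (Fintype.card T : ℂ) * (Fintype.card (UU cs h X) / (Sys.Reg (UU cs h X) (DU R D)).card) =
      ∏ i, (Nat.card (F i) : ℂ) := by
  have h1 := card_Reg (sysU R D)
  have h2 : ∀ i, (1 - ((qi (UU cs h X) (DU R D) i : ℕ) : ℂ)⁻¹) = ((Nat.card (F i) : ℂ) - 1) * (Nat.card (F i) : ℂ)⁻¹ := by
    intro i
    rw [qi_eq R D i]
    have : (Nat.card (F i) : ℂ) ≠ 0 := card_ne_zero' (G := Multiplicative (F i))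
    field_simp
  rw [Finset.prod_congr rfl fun i _ => h2 i, Finset.prod_mul_distrib, ← card_T D hT] at h1
  have h3 : (∏ i, (Nat.card (F i) : ℂ)⁻¹) ≠ 0 := by
    rw [Finset.prod_ne_zero_iff]
    exact fun i _ => inv_ne_zero (card_ne_zero' (G := Multiplicative (F i)))
  have h4 : (Nat.card T : ℂ) ≠ 0 := card_ne_zero'
  have h5 : (Nat.card (UU cs h X) : ℂ) ≠ 0 := card_ne_zero'
  rw [h1, ← Nat.card_eq_fintype_card, ← Nat.card_eq_fintype_card, ← inv_inv (∏ i, (Nat.card (F i) : ℂ)),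
    ← Finset.prod_inv_distrib]
  field_simp

theorem Xi_reg [Finite W] [Fintype Y] [∀ i, Finite (F i)] (hG : GG cs h T X = ⊤)
    (hT : ∀ t : T, (∀ i, D.a i t = 1) → t = 1)
    {lam : I → (↥(UU cs h X) →* ℂˣ)} (hl : Lam (UU cs h X) (DU R D) lam) {u : Y} (hu : IsReg R D u) :
    Xi lam u = ∏ i, (Nat.card (F i) : ℂ) := by
  classical
  have : Fintype (UU cs h X) := Fintype.ofFinite _
  have : Fintype T := Fintype.ofFinite _
  rw [Xi_apply R D hG hl hu, kap_eq R D hT]

/-- the mean of `Xi` -/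
theorem mG_Xi [Finite W] [Fintype Y] [∀ i, Finite (F i)] (hG : GG cs h T X = ⊤)
    (hT : ∀ t : T, (∀ i, D.a i t = 1) → t = 1)
    {lam : I → (↥(UU cs h X) →* ℂˣ)} (hl : Lam (UU cs h X) (DU R D) lam) :
    mG R D (Xi lam) = ∏ i, (Nat.card (F i) : ℂ) := by
  classical
  have : Fintype (UU cs h X) := Fintype.ofFinite _
  have H := sysU R D
  rw [mG_eq, mr_def]
  have h1 : ∀ u ∈ Sys.Reg (UU cs h X) (DU R D), Xi lam (u : Y) = ∏ i, (Nat.card (F i) : ℂ) := fun u hu =>
    Xi_reg R D hG hT hl ((mem_Reg_iff R D).1 hu)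
  rw [Finset.sum_congr rfl h1, Finset.sum_const, nsmul_eq_mul, mul_div_assoc, mul_div_cancel₀]
  exact_mod_cast H.reg_nonempty

theorem isClass_Xi [Fintype Y] (lam : I → (↥(UU cs h X) →* ℂˣ)) : IsClassFunction Y (Xi lam) := isClassFunction_indFun _ _

/-- **the norm of `Xi`** -/
theorem classInner_Xi_Xi [Finite W] [Fintype Y] [∀ i, Finite (F i)] (hG : GG cs h T X = ⊤)
    (hT : ∀ t : T, (∀ i, D.a i t = 1) → t = 1)
    {lam : I → (↥(UU cs h X) →* ℂˣ)} (hl : Lam (UU cs h X) (DU R D) lam) :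
    classInner (Xi lam) (Xi lam) = ∏ i, (Nat.card (F i) : ℂ) := by
  rw [classInner_Xi R D hl (isClass_Xi lam), mG_Xi R D hG hT hl]

/-- **the mean of a character is an integer** -/
theorem mG_isInt [Finite W] [Finite Y] [∀ i, Finite (F i)] {χ : Y → ℂ} (hχ : IsCharacter Y χ) :
    ∃ c : ℤ, mG R D χ = c := by
  classical
  have : Fintype (UU cs h X) := Fintype.ofFinite _
  have : Fintype T := Fintype.ofFinite _
  obtain ⟨lam, hl⟩ := exists_lam R D
  obtain ⟨m, -, hc⟩ := mr_isInt (sysU R D) hl (χ := χ) (Core.isCharacter_comp (UU cs h X).subtype hχ)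
    fun t _ u _ => conj_T_of_class (Core.isCharacter_isClassFunction hχ) t u
  exact ⟨_, by rw [mG_eq]; exact hc⟩

/-- **the mean of a character is congruent to its degree** -/
theorem mG_congr [Finite W] [Finite Y] [∀ i, Finite (F i)] [hp : Fact p.Prime]
    (hN : ∀ f : ↥(UU cs h X) →* ℂˣ, ∀ u, (∀ i, co R D i u = 1) → f u = 1)
    {χ : Y → ℂ} (hχ : IsCharacter Y χ) : ∃ (c : ℤ) (d : ℕ), mG R D χ = c ∧ χ 1 = d ∧ (p : ℤ) ∣ d - c := by
  classical
  have : Fintype (UU cs h X) := Fintype.ofFinite _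
  have : Fintype T := Fintype.ofFinite _
  obtain ⟨lam, hl⟩ := exists_lam R D
  have := mr_congr (sysU R D) hl R.isPGroup_Upos (fun f u hu => hN f u fun i => (mem_DV' R D u.2 u.2).1 (hu i))
    (χ := χ) (Core.isCharacter_comp (UU cs h X).subtype hχ)
    fun t _ u _ => conj_T_of_class (Core.isCharacter_isClassFunction hχ) t u
  rw [← mG_eq] at this
  exact this

theorem mG_one [Finite W] [Finite Y] : mG R D (fun _ => 1) = 1 := by
  classical
  have : Fintype (UU cs h X) := Fintype.ofFinite _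
  rw [mG_eq]
  exact mr_one (sysU R D)

/-- **the squares of the means** -/
theorem sum_sq [Finite W] [Finite Y] [∀ i, Finite (F i)] (hG : GG cs h T X = ⊤)
    (hT : ∀ t : T, (∀ i, D.a i t = 1) → t = 1) [Fintype (IrrCharacter Y)] :
    ∑ χ : IrrCharacter Y, mG R D (χ : Y → ℂ) * mG R D (χ : Y → ℂ) = ∏ i, (Nat.card (F i) : ℂ) := by
  classical
  have : Fintype Y := Fintype.ofFinite _
  obtain ⟨lam, hl⟩ := exists_lam R D
  have h1 : Xi lam = ∑ χ : IrrCharacter Y, mG R D (χ : Y → ℂ) • (χ : Y → ℂ) := by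
    have h2 := Core.classFunction_eq_sum (isClass_Xi lam)
    rw [h2]
    refine Finset.sum_congr rfl fun χ _ => ?_
    congr 1
    obtain ⟨c, hc⟩ := mG_isInt R D (Core.isIrr_isCharacter χ.2)
    rw [← Core.classInner_conj_symm, classInner_Xi R D hl (Core.isIrr_isClassFunction χ.2), hc, map_intCast]
  rw [← classInner_Xi_Xi R D hG hT hl, h1, Core.classInner_sum_smul_sum_smul]
  refine Finset.sum_congr rfl fun χ _ => ?_
  obtain ⟨c, hc⟩ := mG_isInt R D (Core.isIrr_isCharacter χ.2)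
  rw [hc, map_intCast]

/-- the expansion of `Xi` -/
theorem Xi_eq_sum [Finite W] [Fintype Y] [∀ i, Finite (F i)] {lam : I → (↥(UU cs h X) →* ℂˣ)}
    (hl : Lam (UU cs h X) (DU R D) lam) [Fintype (IrrCharacter Y)] :
    Xi lam = ∑ χ : IrrCharacter Y, mG R D (χ : Y → ℂ) • (χ : Y → ℂ) := by
  have h2 := Core.classFunction_eq_sum (isClass_Xi lam)
  rw [h2]
  refine Finset.sum_congr rfl fun χ _ => ?_
  congr 1
  obtain ⟨c, hc⟩ := mG_isInt R D (Core.isIrr_isCharacter χ.2)
  rw [← Core.classInner_conj_symm, classInner_Xi R D hl (Core.isIrr_isClassFunction χ.2), hc, map_intCast]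

end Cfsg.Agent.H40.OC
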