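import Cfsg.Agent.H40.OC.Norm
import Cfsg.Agent.H148.GG.Anti

/-!
# Harish-Chandra induction and the mean over the regular elements (S4884, own characteristic; helper40)

* `IsReg.mem_PJ` : `u` regular, `g⁻¹ u g ∈ P_J` imply `g ∈ P_J`;
* `mJ R D J η` : the mean of `η` over the regular elements of `U_J`;
* `mG_HC` : `mG (HC J α) = mJ J α`.
-/

set_option autoImplicit false

open scoped ComplexConjugate
open Cfsg

namespace Cfsg.Agent.H40.OC

open Cfsg.Agent.OddOrderCharacters.Clifford Cfsg.Agent.Characters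
open Cfsg.Agent.H53.HC Cfsg.Agent.H641.Gow Cfsg.Agent.H148.GG

open CoxeterSystem Cfsg.Agent.ChevalleyStructure.CoxeterGeom Cfsg.Agent.Tits.Roots Cfsg.Agent.Tits.Core
  Cfsg.Agent.Tits.Exchange Cfsg.Agent.Nodes.Reps Cfsg.Agent.Nodes.BNOf Cfsg.Agent.Nodes.StabComb
  Cfsg.Agent.Nodes.Bruhat Cfsg.Agent.Nodes.OppDec Cfsg.Agent.Nodes.LeviDec

variable {I W Y : Type*} [Fintype I] [DecidableEq I] [Group W] [Group Y] {M : CoxeterMatrix I}
  {cs : CoxeterSystem M W} {A : I → I → ℤ} {h : IsCartan M A} {p : ℕ} {T : Subgroup Y} {n : I → Y}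
  {X : (I → ℤ) → Subgroup Y}

variable (R : RGD cs h p T n X) {F : I → Type*} [∀ i, Field (F i)] (D : Adj T X F)

theorem co_B [Finite W] (i : I) {b u : Y} (hb : b ∈ RGD.B cs h T X) (hu : u ∈ UU cs h X)
    (hbu : b⁻¹ * u * b ∈ UU cs h X) (h1 : co R D i ⟨b⁻¹ * u * b, hbu⟩ = 1) : co R D i ⟨u, hu⟩ = 1 := by
  obtain ⟨t, ht, v, hv, rfl⟩ := R.mem_B.1 hb
  have h0 : t⁻¹ * u * t⁻¹⁻¹ ∈ UU cs h X := T_conj_UU R (inv_mem ht) hu
  have h2 : (⟨(t * v)⁻¹ * u * (t * v), hbu⟩ : ↥(UU cs h X)) =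
      (⟨v, hv⟩ : ↥(UU cs h X))⁻¹ * ⟨t⁻¹ * u * t⁻¹⁻¹, h0⟩ * ⟨v, hv⟩ := Subtype.ext (by
        simp only [Subgroup.coe_mul, InvMemClass.coe_inv]
        group)
  rw [h2, map_mul, map_mul, map_inv, mul_assoc, inv_mul_eq_one, right_eq_mul] at h1
  have h3 := co_T R D i (inv_mem ht) hu
  rw [h1, toAdd_one, zero_eq_mul] at h3
  rcases h3 with h3 | h3
  · exact absurd h3 (Units.ne_zero _)
  · exact Multiplicative.toAdd.injective h3

theorem IsReg.conj_B [Finite W] {b u : Y} (hu : IsReg R D u) (hb : b ∈ RGD.B cs h T X) : IsReg R D (b⁻¹ * u * b) := by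
  obtain ⟨h1, h2⟩ := hu
  exact ⟨conj_B_U R hb h1, fun i hi => h2 i (co_B R D i hb h1 _ hi)⟩

/-- **regular elements and parabolic subgroups** -/
theorem IsReg.mem_PJ [Finite W] {u g : Y} {J : Set I} (hg : g ∈ GG cs h T X) (hu : IsReg R D u)
    (hgu : g⁻¹ * u * g ∈ PJ cs h T X J) : g ∈ PJ cs h T X J := by
  obtain ⟨w, b, hb, k, hk, b', hb', e⟩ := (mem_GG R).1 hg
  obtain ⟨v, hv, y, hy, rfl⟩ := exists_isMinR cs J w
  obtain ⟨k₁, hk₁⟩ := exists_rp cs R.nsys v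
  obtain ⟨k₂, hk₂⟩ := exists_rp cs R.nsys y
  have ht := (hk₁.mul hk₂).unique hk
  obtain ⟨q, hq⟩ : ∃ q, q = k₂ * ((k₁ * k₂)⁻¹ * k) * b' := ⟨_, rfl⟩
  have hqP : q ∈ PJ cs h T X J := by
    rw [hq]
    exact mul_mem (mul_mem (LJ_le_PJ (rp_mem_LJ R hy hk₂)) (LJ_le_PJ (T_le_LJ ht))) (B_le_PJ hb')
  have e2 : g = b * k₁ * q := by rw [e, hq]; group
  have hreg := hu.conj_B R D hb
  have h1 : k₁⁻¹ * (b⁻¹ * u * b) * k₁ ∈ PJ cs h T X J := by
    have e3 : k₁⁻¹ * (b⁻¹ * u * b) * k₁ = q * (g⁻¹ * u * g) * q⁻¹ := by rw [e2]; group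
    rw [e3]
    exact mul_mem (mul_mem hqP hgu) (inv_mem hqP)
  obtain ⟨z, hz, hc⟩ := (mem_PJ_iff_cell R).1 h1
  have h2 := Cell.mul_of_length R (hv z hz) (cell_of_rp hk₁) hc
  have e3 : k₁ * (k₁⁻¹ * (b⁻¹ * u * b) * k₁) = (b⁻¹ * u * b) * k₁ := by group
  rw [e3] at h2
  have h3 : Cell R.nsys cs h X v ((b⁻¹ * u * b) * k₁) := (cell_of_rp hk₁).mul_left (RGD.U_le_B hreg.1)
  have h4 := Cell.unique R h2 h3
  rw [mul_eq_left] at h4
  rw [h4] at hc
  have h5 := hreg.mem_B R D (NN_le_GG R ⟨v, hk₁⟩) hc.mem_of_one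
  rw [e2]
  exact mul_mem (mul_mem (B_le_PJ hb) (B_le_PJ h5)) hqP

/-- the value of a Harish-Chandra induced character at a regular element -/
theorem HC_reg [Finite W] [Fintype Y] (hG : GG cs h T X = ⊤) (J : Set I) {α : ↥(LJ cs h T X J) → ℂ}
    (hα : IsClassFunction _ α) {u : Y} (hu : IsReg R D u) :
    HC R J α u = α (projL R J ⟨u, UU_le_PJ J hu.1⟩) := by
  classical
  have : Fintype (PJ cs h T X J) := Fintype.ofFinite _
  unfold HC
  rw [Cfsg.Agent.Characters.Core.indFun_apply]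
  rw [sum_eq_sum_subgroup (PJ cs h T X J) (fun x => extendByZero (PJ cs h T X J) (α ∘ projL R J) (x⁻¹ * u * x)) (by
    intro x hx
    refine ext_apply_not_mem _ _ _ fun h1 => hx ?_
    exact IsReg.mem_PJ R D (by rw [hG]; exact Subgroup.mem_top x) hu h1)]
  have h1 : ∀ x : PJ cs h T X J, extendByZero (PJ cs h T X J) (α ∘ projL R J) ((x : Y)⁻¹ * u * x) =
      α (projL R J ⟨u, UU_le_PJ J hu.1⟩) := by
    intro x
    have h2 : (x : Y)⁻¹ * u * x ∈ PJ cs h T X J := mul_mem (mul_mem (inv_mem x.2) (UU_le_PJ J hu.1)) x.2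
    rw [ext_apply_mem _ _ _ h2, Function.comp_apply]
    have h3 : (⟨(x : Y)⁻¹ * u * x, h2⟩ : PJ cs h T X J) = x⁻¹ * ⟨u, UU_le_PJ J hu.1⟩ * x := rfl
    rw [h3, map_mul, map_mul, map_inv]
    have h4 := hα (projL R J ⟨u, UU_le_PJ J hu.1⟩) (projL R J x)⁻¹
    rwa [inv_inv] at h4
  rw [Finset.sum_congr rfl fun x _ => h1 x, Finset.sum_const, Finset.card_univ, nsmul_eq_mul,
    Nat.card_eq_fintype_card, inv_mul_cancel_left₀ card_ne]

/-- the coordinates of an element of `U_J` outside `J` -/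
theorem co_UJ [Finite W] {J : Set I} {i : I} (hi : i ∉ J) {a : Y} (ha : a ∈ UJ cs h X J) :
    co R D i ⟨a, UJ_le_U J ha⟩ = 1 := by
  rw [co_apply, cor_V R i, map_one]
  refine RGD.Sup_mono ?_ ha
  intro x hx
  refine ⟨hx.1, hx.2.1, ?_⟩
  rintro rfl
  exact hi (sr_mem_of_PosJ hx)

/-- the coordinates of an element of `V_J` in `J` -/
theorem co_VJ [Finite W] {J : Set I} {i : I} (hi : i ∈ J) {v : Y} (hv : v ∈ VJ cs h X J) :
    co R D i ⟨v, VJ_le_U J hv⟩ = 1 := by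
  rw [co_apply, cor_V R i, map_one]
  refine RGD.Sup_mono ?_ hv
  rintro x ⟨hx, h0, k, hk, hk0⟩
  refine ⟨hx, h0, ?_⟩
  rintro rfl
  rw [sr_ne (show k ≠ i from fun e => hk (by rw [e]; exact hi))] at hk0
  exact lt_irrefl _ hk0

include R in
/-- a sum over `U` -/
theorem sum_UV [Finite W] [Fintype Y] (J : Set I) [Fintype (UJ cs h X J)] [Fintype (VJ cs h X J)]
    [Fintype (UU cs h X)] (f : Y → ℂ) :
    ∑ b : UU cs h X, f b = ∑ a : UJ cs h X J, ∑ v : VJ cs h X J, f (a * v) := by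
  rw [← Finset.sum_product']
  symm
  refine Finset.sum_bij (fun (x : UJ cs h X J × VJ cs h X J) _ => (⟨(x.1 : Y) * x.2, mul_mem (UJ_le_U J x.1.2)
    (VJ_le_U J x.2.2)⟩ : UU cs h X)) (fun _ _ => Finset.mem_univ _) ?_ ?_ (fun _ _ => rfl)
  · rintro ⟨t, v⟩ _ ⟨t', v'⟩ _ he
    have h1 : (t : Y) * v = t' * v' := congrArg Subtype.val he
    have h2 : (t' : Y)⁻¹ * t = v' * (v : Y)⁻¹ := by
      rw [inv_mul_eq_iff_eq_mul, ← mul_assoc, ← h1, mul_inv_cancel_right]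
    have h3 : (t' : Y)⁻¹ * t ∈ UJ cs h X J ⊓ VJ cs h X J :=
      Subgroup.mem_inf.2 ⟨mul_mem (inv_mem t'.2) t.2, by rw [h2]; exact mul_mem v'.2 (inv_mem v.2)⟩
    rw [UJ_inf_VJ R, Subgroup.mem_bot] at h3
    have h4 : (t : Y) = t' := (inv_mul_eq_one.1 h3).symm
    rw [h4, mul_right_inj] at h1
    exact Prod.ext (Subtype.ext h4) (Subtype.ext h1)
  · rintro ⟨b, hb⟩ _
    obtain ⟨t, ht, v, hv, rfl⟩ := (mem_U_iff R (J := J)).1 hb
    exact ⟨(⟨t, ht⟩, ⟨v, hv⟩), Finset.mem_univ _, rfl⟩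

theorem UJ_le_L {J : Set I} : UJ cs h X J ≤ LJ cs h T X J := le_trans UJ_le_BJ BJ_le_LJ

/-- the mean over the regular elements of `U_J` -/
noncomputable def mJ [Finite W] [Finite Y] (J : Set I) (η : ↥(LJ cs h T X J) → ℂ) : ℂ := by
  classical exact (letI : Fintype (UJ cs h X J) := Fintype.ofFinite _
    mr (UJ cs h X J) (fun i : J => DV R D (UJ cs h X J) i) (extendByZero (LJ cs h T X J) η))

theorem mJ_eq [Finite W] [Finite Y] (J : Set I) [Fintype (UJ cs h X J)] (η : ↥(LJ cs h T X J) → ℂ) :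
    mJ R D J η = mr (UJ cs h X J) (fun i : J => DV R D (UJ cs h X J) i) (extendByZero (LJ cs h T X J) η) := by
  unfold mJ
  congr
  exact Subsingleton.elim _ _

/-- **Harish-Chandra induction preserves the mean over the regular elements.** -/
theorem mG_HC [Finite W] [Fintype Y] (hG : GG cs h T X = ⊤) (J : Set I) {α : ↥(LJ cs h T X J) → ℂ}
    (hα : IsClassFunction _ α) : mG R D (HC R J α) = mJ R D J α := by
  classical
  have : Fintype (UJ cs h X J) := Fintype.ofFinite _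
  have : Fintype (VJ cs h X J) := Fintype.ofFinite _
  have : Fintype (UU cs h X) := Fintype.ofFinite _
  -- the number of the regular elements of `V_J`
  obtain ⟨c, hc⟩ : ∃ c : ℂ, c = ∑ v : VJ cs h X J, if (∀ i, i ∉ J → co R D i ⟨v, VJ_le_U J v.2⟩ ≠ 1) then (1 : ℂ) else 0 :=
    ⟨_, rfl⟩
  have hreg : ∀ (a : UJ cs h X J) (v : VJ cs h X J), IsReg R D ((a : Y) * v) ↔
      (∀ i : J, (a : Y) ∉ DV R D (UJ cs h X J) i) ∧ (∀ i, i ∉ J → co R D i ⟨v, VJ_le_U J v.2⟩ ≠ 1) := by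
    intro a v
    have hco : ∀ i, co R D i ⟨(a : Y) * v, mul_mem (UJ_le_U J a.2) (VJ_le_U J v.2)⟩ =
        co R D i ⟨a, UJ_le_U J a.2⟩ * co R D i ⟨v, VJ_le_U J v.2⟩ := by
      intro i
      rw [← map_mul]; rfl
    constructor
    · rintro ⟨h1, h2⟩
      refine ⟨fun i hi => ?_, fun i hi hi2 => ?_⟩
      · refine h2 i ?_
        rw [hco, co_VJ R D i.2 v.2, (mem_DV' R D (UJ_le_U J a.2) a.2).1 hi, mul_one]
      · refine h2 i ?_
        rw [hco, hi2, co_UJ R D hi a.2, mul_one]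
    · rintro ⟨h1, h2⟩
      refine ⟨mul_mem (UJ_le_U J a.2) (VJ_le_U J v.2), fun i => ?_⟩
      rw [hco]
      by_cases hi : i ∈ J
      · rw [co_VJ R D hi v.2, mul_one]
        exact fun h3 => h1 ⟨i, hi⟩ ((mem_DV' R D (UJ_le_U J a.2) a.2).2 h3)
      · rw [co_UJ R D hi a.2, one_mul]
        exact h2 i hi
  have key : ∀ (g : Y → ℂ) (f : UJ cs h X J → ℂ), (∀ (a : UJ cs h X J) (v : VJ cs h X J), IsReg R D ((a : Y) * v) →
      g (a * v) = f a) → ∑ u ∈ Sys.Reg (UU cs h X) (DU R D), g u =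
      c * ∑ a ∈ Sys.Reg (UJ cs h X J) (fun i : J => DV R D (UJ cs h X J) i), f a := by
    intro g f hgf
    have h1 : ∑ u ∈ Sys.Reg (UU cs h X) (DU R D), g u =
        ∑ u : UU cs h X, (fun y : Y => if IsReg R D y then g y else 0) u := by
      rw [← Finset.sum_filter]
      refine Finset.sum_congr ?_ fun _ _ => rfl
      ext u
      rw [Finset.mem_filter, mem_Reg_iff]
      exact ⟨fun h => ⟨Finset.mem_univ _, h⟩, fun h => h.2⟩
    rw [h1, sum_UV R J (fun y : Y => if IsReg R D y then g y else 0)]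
    have h2 : ∀ a : UJ cs h X J, ∑ v : VJ cs h X J, (if IsReg R D ((a : Y) * v) then g (a * v) else 0) =
        if a ∈ Sys.Reg (UJ cs h X J) (fun i : J => DV R D (UJ cs h X J) i) then c * f a else 0 := by
      intro a
      split_ifs with ha
      · rw [Sys.mem_Reg] at ha
        rw [hc, Finset.sum_mul]
        refine Finset.sum_congr rfl fun v _ => ?_
        by_cases hv : ∀ i, i ∉ J → co R D i ⟨v, VJ_le_U J v.2⟩ ≠ 1
        · have h3 := (hreg a v).2 ⟨ha, hv⟩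
          rw [if_pos h3, if_pos hv, one_mul, hgf a v h3]
        · rw [if_neg hv, if_neg (fun h3 => hv ((hreg a v).1 h3).2), zero_mul]
      · rw [Sys.mem_Reg] at ha
        refine Finset.sum_eq_zero fun v _ => ?_
        rw [if_neg (fun h3 => ha ((hreg a v).1 h3).1)]
    rw [Finset.sum_congr rfl fun a _ => h2 a, ← Finset.sum_filter, Finset.filter_mem_eq_inter, Finset.univ_inter,
      Finset.mul_sum]
  have k1 := key (HC R J α) (fun a => extendByZero (LJ cs h T X J) α a) (by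
    intro a v hav
    rw [HC_reg R D hG J hα hav, ext_apply_mem _ _ _ (UJ_le_L a.2)]
    congr 1
    have h3 : (⟨(a : Y) * v, UU_le_PJ J hav.1⟩ : PJ cs h T X J) =
      ⟨a, LJ_le_PJ (UJ_le_L a.2)⟩ * ⟨v, VJ_le_PJ v.2⟩ := rfl
    rw [h3, map_mul, projL_V R v.2, mul_one]
    exact projL_L R (UJ_le_L a.2))
  have k2 := key (fun _ => 1) (fun _ => 1) (fun _ _ _ => rfl)
  have hne := (sysU R D).reg_nonempty
  rw [Finset.sum_const, Finset.sum_const, nsmul_eq_mul, nsmul_eq_mul, mul_one, mul_one] at k2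
  have hc0 : c ≠ 0 := by
    intro h0
    rw [h0, zero_mul] at k2
    exact hne (by exact_mod_cast k2)
  rw [mG_eq, mJ_eq, mr_def, mr_def, k1, k2, mul_div_mul_left _ _ hc0]

end Cfsg.Agent.H40.OC
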