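import Cfsg.Agent.H40.OC.Sys
import Cfsg.Agent.OddOrderCharacters.Clifford

/-!
# Linear characters and the mean over the regular elements (S4884, own characteristic; helper40)

`mr U D φ` : the mean of `φ` over the regular elements of `U`.
* `mr_eq` : `mr U D φ = ∑_J (-1)^|J| [φ, ψ_J]`, `ψ_J = ∏_{i ∈ J} lam i`;
* `card_Reg` : `|Reg| = |U| ∏ (1 - 1 / q_i)`;
* `sum_mean` : `∑_J ∏_{i ∈ J} (q_i - 1) [φ, ψ_J]` is the mean of `φ` over `⋂ D i`.
-/

set_option autoImplicit false

open scoped ComplexConjugate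
open Cfsg

namespace Cfsg.Agent.H40.OC

open Cfsg.Agent.OddOrderCharacters.Clifford

variable {I Y : Type*} [Group Y] {U T : Subgroup Y} {D : I → Subgroup Y}

/-- linear characters of the coordinates -/
structure Lam (U : Subgroup Y) (D : I → Subgroup Y) (lam : I → (↥U →* ℂˣ)) : Prop where
  one : ∀ i, ∀ u : ↥U, (u : Y) ∈ D i → lam i u = 1
  ne : ∀ i, lam i ≠ 1

/-- the mean over the regular elements -/
noncomputable def mr (U : Subgroup Y) (D : I → Subgroup Y) [Fintype U] (φ : Y → ℂ) : ℂ :=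
  (∑ u ∈ Sys.Reg U D, φ u) / (Sys.Reg U D).card

theorem mr_def [Fintype U] (φ : Y → ℂ) : mr U D φ = (∑ u ∈ Sys.Reg U D, φ u) / (Sys.Reg U D).card := rfl

/-- the product of the linear characters in `J` -/
noncomputable def psi (lam : I → (↥U →* ℂˣ)) (J : Finset I) : ↥U →* ℂˣ := ∏ i ∈ J, lam i

theorem psi_apply (lam : I → (↥U →* ℂˣ)) (J : Finset I) (u : ↥U) :
    ((psi lam J u : ℂˣ) : ℂ) = ∏ i ∈ J, (lam i u : ℂ) := by
  unfold psi
  rw [MonoidHom.finsetProd_apply, Units.coe_prod]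

theorem sum_lam [Fintype U] {f : ↥U →* ℂˣ} (hf : f ≠ 1) : ∑ u : U, (f u : ℂ) = 0 := by
  refine sum_hom_units_eq_zero ((Units.coeHom ℂ).comp f) ?_
  intro h
  apply hf
  ext u
  exact congrArg (fun g : ↥U →* ℂ => g u) h

theorem sum_conj_lam [Fintype U] {f : ↥U →* ℂˣ} (hf : f ≠ 1) : ∑ u : U, conj (f u : ℂ) = 0 := by
  rw [← map_sum, sum_lam hf, map_zero]

theorem Lam.mul {lam : I → (↥U →* ℂˣ)} (hl : Lam U D lam) {i : I} {u d : ↥U} (hd : (d : Y) ∈ D i) :
    lam i (u * d) = lam i u := by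
  rw [map_mul, hl.one i d hd, mul_one]

/-- the value of `∏ f (lam i)` extended by zero -/
theorem ext_mul {F : ↥U → ℂ} (hF : ∀ u d : ↥U, (∀ i, (d : Y) ∈ D i) → F (u * d) = F u) :
    ∀ u ∈ U, ∀ d ∈ U, (∀ i, d ∈ D i) → extendByZero U F (u * d) = extendByZero U F u := by
  intro u hu d hd h
  rw [ext_apply_mem U F _ (mul_mem hu hd), ext_apply_mem U F _ hu]
  exact hF ⟨u, hu⟩ ⟨d, hd⟩ h

theorem ext_mul' {i : I} {F : ↥U → ℂ} (hle : D i ≤ U) (hF : ∀ u d : ↥U, (d : Y) ∈ D i → F (u * d) = F u) :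
    ∀ u ∈ U, ∀ d ∈ D i, extendByZero U F (u * d) = extendByZero U F u := by
  intro u hu d hd
  rw [ext_apply_mem U F _ (mul_mem hu (hle hd)), ext_apply_mem U F _ hu]
  exact hF ⟨u, hu⟩ ⟨d, hle hd⟩ hd

/-- independence, for functions on `U` -/
theorem Sys.sum_prod' [Finite Y] [Fintype I] (H : Sys U T D) [Fintype U] (f : I → ↥U → ℂ)
    (hf : ∀ i, ∀ u d : ↥U, (d : Y) ∈ D i → f i (u * d) = f i u) :
    ∑ u : U, ∏ i, f i u = (Fintype.card U : ℂ) * ∏ i, ((∑ u : U, f i u) / (Fintype.card U : ℂ)) := by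
  have h1 := H.sum_prod (fun i => extendByZero U (f i)) (fun i => ext_mul' (H.le i) (hf i))
  simp only [ext_apply_coe] at h1
  exact h1

theorem card_ne [Fintype U] : (Fintype.card U : ℂ) ≠ 0 := by
  have : 0 < Fintype.card U := Fintype.card_pos
  exact_mod_cast this.ne'

theorem Sys.reg_nonempty [Finite Y] [Fintype I] (H : Sys U T D) [Fintype U] : (Reg U D).card ≠ 0 := by
  classical
  intro h0
  have h1 : ∀ u : U, ∏ i, (if (u : Y) ∈ D i then (0 : ℂ) else 1) = 0 := by
    intro u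
    have hu : u ∉ Reg U D := by
      rw [Finset.card_eq_zero.1 h0]
      exact Finset.notMem_empty _
    rw [mem_Reg] at hu
    push Not at hu
    obtain ⟨i, hi⟩ := hu
    exact Finset.prod_eq_zero (Finset.mem_univ i) (if_pos hi)
  have h2 := H.sum_prod' (fun i (u : ↥U) => if (u : Y) ∈ D i then (0 : ℂ) else 1) (by
    intro i u d hd
    simp only [Subgroup.coe_mul, Subgroup.mul_mem_cancel_right _ hd])
  rw [Finset.sum_eq_zero fun u _ => h1 u] at h2
  have h3 := (mul_eq_zero.1 h2.symm).resolve_left card_ne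
  rw [Finset.prod_eq_zero_iff] at h3
  obtain ⟨i, -, hi⟩ := h3
  rw [div_eq_zero_iff] at hi
  have h4 := hi.resolve_right card_ne
  obtain ⟨a, ha, haD⟩ := H.ne i
  have h5 : ∑ u : U, (if (u : Y) ∈ D i then (0 : ℂ) else 1) = (((Finset.univ.filter fun u : U => (u : Y) ∉ D i).card : ℕ) : ℂ) := by
    rw [Finset.card_eq_sum_ones, Nat.cast_sum, Finset.sum_filter]
    refine Finset.sum_congr rfl fun u _ => ?_
    split_ifs with h6
    · rfl
    · simp
  rw [h5, Nat.cast_eq_zero, Finset.card_eq_zero] at h4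
  have h6 : (⟨a, ha⟩ : U) ∈ Finset.univ.filter fun u : U => (u : Y) ∉ D i :=
    Finset.mem_filter.2 ⟨Finset.mem_univ _, haD⟩
  rw [h4] at h6
  exact absurd h6 (Finset.notMem_empty _)

/-- the function `∏ (1 - conj lam)` -/
theorem reg_sum_lam [Finite Y] [Fintype I] (H : Sys U T D) [Fintype U] [Fintype T] {lam : I → (↥U →* ℂˣ)}
    (hl : Lam U D lam) {φ : Y → ℂ} (hφ : ∀ t ∈ T, ∀ u ∈ U, φ (t⁻¹ * u * t) = φ u) :
    ∑ u : U, φ u * ∏ i, (1 - conj (lam i u : ℂ)) = (Fintype.card U : ℂ) * mr U D φ := by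
  classical
  have h1 := H.reg_sum (F := extendByZero U fun u : U => ∏ i, (1 - conj (lam i u : ℂ))) (φ := φ)
    (ext_mul fun u d hd => Finset.prod_congr rfl fun i _ => by rw [hl.mul (hd i)]) hφ (by
      intro u hu
      rw [ext_apply_coe]
      rw [Sys.mem_Reg] at hu
      push Not at hu
      obtain ⟨i, hi⟩ := hu
      refine Finset.prod_eq_zero (Finset.mem_univ i) ?_
      rw [hl.one i u hi]
      simp)
  simp only [ext_apply_coe] at h1
  rw [h1, H.sum_prod' (fun i (u : ↥U) => 1 - conj (lam i u : ℂ)) (by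
    intro i u d hd
    simp only [hl.mul hd])]
  have h2 : ∀ i, (∑ u : U, (1 - conj (lam i u : ℂ))) / (Fintype.card U : ℂ) = 1 := by
    intro i
    rw [Finset.sum_sub_distrib, sum_conj_lam (hl.ne i), sub_zero, Finset.sum_const, Finset.card_univ, nsmul_eq_mul,
      mul_one, div_self card_ne]
  rw [Finset.prod_congr rfl fun i _ => h2 i, Finset.prod_const_one, mul_one, mr_def]
  ring

theorem prod_one_sub' {ι : Type*} (s : Finset ι) (f : ι → ℂ) :
    ∏ i ∈ s, (1 - f i) = ∑ J ∈ s.powerset, (-1) ^ J.card * ∏ i ∈ J, f i := by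
  classical
  have h1 : ∀ i, 1 - f i = 1 + (-1) * f i := fun i => by ring
  rw [Finset.prod_congr rfl fun i _ => h1 i, Finset.prod_one_add]
  refine Finset.sum_congr rfl fun J _ => ?_
  rw [Finset.prod_mul_distrib, Finset.prod_const]

/-- **the mean over the regular elements as an alternating sum** -/
theorem mr_eq [Finite Y] [Fintype I] (H : Sys U T D) [Fintype U] [Fintype T] {lam : I → (↥U →* ℂˣ)}
    (hl : Lam U D lam) {φ : Y → ℂ} (hφ : ∀ t ∈ T, ∀ u ∈ U, φ (t⁻¹ * u * t) = φ u) :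
    mr U D φ = ∑ J : Finset I, (-1) ^ J.card *
      classInner (fun u : U => φ u) (fun u : U => (psi lam J u : ℂ)) := by
  classical
  have h1 := reg_sum_lam H hl hφ
  have h2 : mr U D φ = (Fintype.card U : ℂ)⁻¹ * ∑ u : U, φ u * ∏ i, (1 - conj (lam i u : ℂ)) := by
    rw [h1, inv_mul_cancel_left₀ card_ne]
  rw [h2]
  have h3 : ∀ u : U, φ u * ∏ i, (1 - conj (lam i u : ℂ)) =
      ∑ J : Finset I, (-1) ^ J.card * (φ u * conj (psi lam J u : ℂ)) := by
    intro u
    rw [prod_one_sub', Finset.mul_sum, Finset.powerset_univ]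
    refine Finset.sum_congr rfl fun J _ => ?_
    rw [psi_apply, map_prod]
    ring
  rw [Finset.sum_congr rfl fun u _ => h3 u, Finset.sum_comm, Finset.mul_sum]
  refine Finset.sum_congr rfl fun J _ => ?_
  rw [classInner_apply, Nat.card_eq_fintype_card, ← Finset.mul_sum]
  ring

/-- the index of the kernel of a coordinate -/
noncomputable def qi (U : Subgroup Y) (D : I → Subgroup Y) (i : I) : ℕ := (D i).relIndex U

theorem qi_mul [Finite Y] (H : Sys U T D) (i : I) : (qi U D i : ℂ) * (Nat.card (D i) : ℂ) = Nat.card U := by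
  have h1 := ((D i).subgroupOf U).card_mul_index
  have h2 : Nat.card ((D i).subgroupOf U) = Nat.card (D i) :=
    Nat.card_congr (Subgroup.subgroupOfEquivOfLe (H.le i)).toEquiv
  rw [h2] at h1
  unfold qi Subgroup.relIndex
  rw [← h1]
  push_cast
  ring

theorem sum_ind [Finite Y] (H : Sys U T D) [Fintype U] (i : I) [DecidablePred fun u : U => (u : Y) ∈ D i] :
    ∑ u : U, (if (u : Y) ∈ D i then (1 : ℂ) else 0) = Nat.card (D i) := by
  rw [← Finset.sum_filter, Finset.sum_const, nsmul_eq_mul, mul_one, ← Fintype.card_subtype]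
  congr 1
  rw [← Nat.card_eq_fintype_card, ← Nat.card_congr (Subgroup.subgroupOfEquivOfLe (H.le i)).toEquiv]
  rfl

theorem qi_ne [Finite Y] (H : Sys U T D) (i : I) : (qi U D i : ℂ) ≠ 0 := by
  intro h
  have := qi_mul H i
  rw [h, zero_mul] at this
  exact card_ne_zero' this.symm

theorem div_card [Finite Y] (H : Sys U T D) (i : I) : (Nat.card (D i) : ℂ) / Nat.card U = (qi U D i : ℂ)⁻¹ := by
  rw [← qi_mul H i]
  have := card_ne_zero' (G := D i)
  have := qi_ne H i
  field_simp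

/-- **the number of regular elements** -/
theorem card_Reg [Finite Y] [Fintype I] (H : Sys U T D) [Fintype U] :
    ((Sys.Reg U D).card : ℂ) = (Nat.card U : ℂ) * ∏ i, (1 - (qi U D i : ℂ)⁻¹) := by
  classical
  have h1 := H.sum_prod' (fun i (u : ↥U) => 1 - if (u : Y) ∈ D i then (1 : ℂ) else 0) (by
    intro i u d hd
    simp only [Subgroup.coe_mul, Subgroup.mul_mem_cancel_right _ hd])
  have h2 : ∀ i, (∑ u : U, (1 - if (u : Y) ∈ D i then (1 : ℂ) else 0)) / (Fintype.card U : ℂ) =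
      1 - (qi U D i : ℂ)⁻¹ := by
    intro i
    rw [Finset.sum_sub_distrib, sum_ind H i, Finset.sum_const, Finset.card_univ, nsmul_eq_mul, mul_one, sub_div,
      div_self card_ne, ← Nat.card_eq_fintype_card, div_card H i]
  rw [Finset.prod_congr rfl fun i _ => h2 i] at h1
  rw [Nat.card_eq_fintype_card, ← h1, Finset.card_eq_sum_ones, Nat.cast_sum]
  unfold Sys.Reg
  rw [Finset.sum_filter]
  refine Finset.sum_congr rfl fun u _ => ?_
  split_ifs with h3
  · rw [Finset.prod_eq_one fun i _ => by rw [if_neg (h3 i), sub_zero], Nat.cast_one]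
  · push Not at h3
    obtain ⟨i, hi⟩ := h3
    rw [Finset.prod_eq_zero (Finset.mem_univ i) (by rw [if_pos hi, sub_self])]

theorem card_Reg' [Finite Y] [Fintype I] (H : Sys U T D) [Fintype U] :
    (Sys.Reg U D).card * ∏ i, qi U D i = Nat.card U * ∏ i, (qi U D i - 1) := by
  have h1 : ((((Sys.Reg U D).card * ∏ i, qi U D i : ℕ)) : ℂ) = ((Nat.card U * ∏ i, (qi U D i - 1) : ℕ) : ℂ) := by
    push_cast
    rw [card_Reg H, mul_assoc, ← Finset.prod_mul_distrib]
    congr 1
    refine Finset.prod_congr rfl fun i _ => ?_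
    have h2 := qi_ne H i
    have h3 : 1 ≤ qi U D i := Nat.one_le_iff_ne_zero.2 (by exact_mod_cast h2)
    rw [Nat.cast_sub h3, Nat.cast_one]
    field_simp
  exact_mod_cast h1

end Cfsg.Agent.H40.OC
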