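import Mathlib

/-!
# Unipotent groups with coordinates (S4884, own characteristic; helper40)

`Sys U T D` : `T` normalises `U`, the subgroups `D i` of `U` are normal and `T`-invariant, `U → ∏ U / D i` is surjective, and
`T` is transitive on the elements of `∏ (U / D i)` with nontrivial coordinates.
* `Sys.sum_prod` : independence of the coordinates;
* `Sys.avg` : averages over `T`;
* `Sys.reg_sum` : `|Ureg| * ∑ φ F = (∑ F) * ∑_{Ureg} φ` for `F` supported on the regular elements;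
* `Sys.card_reg`.
-/

set_option autoImplicit false

open scoped ComplexConjugate

namespace Cfsg.Agent.H40.OC

/-- sums over the fibres of a surjective homomorphism -/
theorem sum_comp {G P : Type*} [Group G] [Group P] [Fintype G] [Fintype P] (π : G →* P)
    (hs : Function.Surjective π) (F : P → ℂ) :
    ∑ g, F (π g) = ((Fintype.card G : ℂ) / Fintype.card P) * ∑ q, F q := by
  classical
  have h1 : ∀ q : P, (Finset.univ.filter fun g => π g = q).card = (Finset.univ.filter fun g => π g = 1).card :=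
    fun q => MonoidHom.card_fiber_eq_of_mem_range π (hs q) (hs 1)
  have h2 : Fintype.card G = Fintype.card P * (Finset.univ.filter fun g => π g = 1).card := by
    rw [← Finset.card_univ, Finset.card_eq_sum_card_fiberwise (f := π) (t := Finset.univ) (fun _ _ => Finset.mem_univ _),
      Finset.sum_congr rfl fun q _ => h1 q, Finset.sum_const, Finset.card_univ, smul_eq_mul]
  have h3 : (Fintype.card P : ℂ) ≠ 0 := by
    have : 0 < Fintype.card P := Fintype.card_pos
    exact_mod_cast this.ne'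
  rw [h2, Nat.cast_mul, mul_div_cancel_left₀ _ h3, Finset.mul_sum,
    ← Finset.sum_fiberwise_of_maps_to (t := Finset.univ) (g := π) (fun _ _ => Finset.mem_univ _)]
  refine Finset.sum_congr rfl fun q _ => ?_
  have h4 : ∀ g ∈ Finset.univ.filter (fun g => π g = q), F (π g) = F q := fun g hg => by
    rw [(Finset.mem_filter.1 hg).2]
  rw [Finset.sum_congr rfl h4, Finset.sum_const, h1 q, nsmul_eq_mul]

variable {I Y : Type*} [Group Y]

/-- a unipotent group with coordinates -/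
structure Sys (U T : Subgroup Y) (D : I → Subgroup Y) : Prop where
  tU : T ≤ Subgroup.normalizer (U : Set Y)
  le : ∀ i, D i ≤ U
  uD : ∀ i, U ≤ Subgroup.normalizer (D i : Set Y)
  tD : ∀ i, T ≤ Subgroup.normalizer (D i : Set Y)
  co : ∀ i, ∀ a ∈ U, ∃ x ∈ U, x⁻¹ * a ∈ D i ∧ ∀ j, j ≠ i → x ∈ D j
  ne : ∀ i, ∃ a ∈ U, a ∉ D i
  tr : ∀ a ∈ U, ∀ b ∈ U, (∀ i, a ∉ D i) → (∀ i, b ∉ D i) → ∃ t ∈ T, ∀ i, (t⁻¹ * a * t)⁻¹ * b ∈ D i

namespace Sys

variable {U T : Subgroup Y} {D : I → Subgroup Y}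

theorem conj_U (H : Sys U T D) {t u : Y} (ht : t ∈ T) (hu : u ∈ U) : t⁻¹ * u * t ∈ U := by
  have := (Subgroup.mem_normalizer_iff.1 (inv_mem (H.tU ht)) u).1 hu
  rwa [inv_inv] at this

theorem conj_U' (H : Sys U T D) {t u : Y} (ht : t ∈ T) (hu : u ∈ U) : t * u * t⁻¹ ∈ U :=
  (Subgroup.mem_normalizer_iff.1 (H.tU ht) u).1 hu

theorem conj_D_iff (H : Sys U T D) {t u : Y} (ht : t ∈ T) (i : I) : t⁻¹ * u * t ∈ D i ↔ u ∈ D i := by
  have := (Subgroup.mem_normalizer_iff.1 (inv_mem (H.tD i ht)) u)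
  rw [inv_inv] at this
  exact this.symm

theorem mul_mem_iff (H : Sys U T D) {u d : Y} {i : I} (hd : d ∈ D i) : u * d ∈ D i ↔ u ∈ D i :=
  Subgroup.mul_mem_cancel_right _ hd

/-- **Independence of the coordinates.** -/
theorem sum_prod [Finite Y] [Fintype I] (H : Sys U T D) [Fintype U] (f : I → Y → ℂ)
    (hf : ∀ i, ∀ u ∈ U, ∀ d ∈ D i, f i (u * d) = f i u) :
    ∑ u : U, ∏ i, f i u = (Fintype.card U : ℂ) * ∏ i, ((∑ u : U, f i u) / (Fintype.card U : ℂ)) := by
  classical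
  have hn : ∀ i, ((D i).subgroupOf U).Normal := fun i => Subgroup.normal_subgroupOf_of_le_normalizer (H.uD i)
  let A : I → Type _ := fun i => ↥U ⧸ (D i).subgroupOf U
  have : ∀ i, Fintype (A i) := fun i => Fintype.ofFinite _
  let π : ↥U →* (∀ i, A i) := MonoidHom.pi fun i => QuotientGroup.mk' ((D i).subgroupOf U)
  have hπ : Function.Surjective π := by
    rw [← MonoidHom.range_eq_top, eq_top_iff]
    rintro a -
    refine Subgroup.pi_mem_of_mulSingle_mem a fun i => ?_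
    obtain ⟨⟨b, hb⟩, hb2⟩ := QuotientGroup.mk'_surjective ((D i).subgroupOf U) (a i)
    obtain ⟨x, hx, hx1, hx2⟩ := H.co i b hb
    refine ⟨⟨x, hx⟩, funext fun j => ?_⟩
    by_cases hj : j = i
    · subst hj
      rw [Pi.mulSingle_eq_same, ← hb2]
      change QuotientGroup.mk' ((D j).subgroupOf U) ⟨x, hx⟩ = _
      rw [QuotientGroup.mk'_eq_mk']
      exact ⟨⟨x⁻¹ * b, mul_mem (inv_mem hx) hb⟩, Subgroup.mem_subgroupOf.2 hx1, Subtype.ext (by simp)⟩
    · rw [Pi.mulSingle_eq_of_ne hj]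
      change QuotientGroup.mk' ((D j).subgroupOf U) ⟨x, hx⟩ = 1
      rw [QuotientGroup.mk'_apply, QuotientGroup.eq_one_iff, Subgroup.mem_subgroupOf]
      exact hx2 j hj
  let fb : ∀ i, A i → ℂ := fun i a => f i (Quotient.out a : ↥U)
  have hfb : ∀ i (u : ↥U), fb i (QuotientGroup.mk' ((D i).subgroupOf U) u) = f i u := by
    intro i u
    have h1 : (QuotientGroup.mk' ((D i).subgroupOf U)
        (Quotient.out (QuotientGroup.mk' ((D i).subgroupOf U) u : A i) : ↥U)) =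
        QuotientGroup.mk' ((D i).subgroupOf U) u := Quotient.out_eq _
    rw [QuotientGroup.mk'_eq_mk'] at h1
    obtain ⟨z, hz, hz2⟩ := h1
    have h2 := hf i _ (Quotient.out (QuotientGroup.mk' ((D i).subgroupOf U) u : A i) : ↥U).2 _
      (Subgroup.mem_subgroupOf.1 hz)
    rw [← Subgroup.coe_mul, hz2] at h2
    exact h2.symm
  have hU : (Fintype.card ↥U : ℂ) ≠ 0 := by
    have : 0 < Fintype.card ↥U := Fintype.card_pos
    exact_mod_cast this.ne'
  have hA : ∀ i, (Fintype.card (A i) : ℂ) ≠ 0 := fun i => by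
    have : 0 < Fintype.card (A i) := Fintype.card_pos
    exact_mod_cast this.ne'
  have h1 : ∀ u : ↥U, ∏ i, f i u = ∏ i, fb i (π u i) := fun u =>
    Finset.prod_congr rfl fun i _ => (hfb i u).symm
  rw [Finset.sum_congr rfl fun u _ => h1 u, sum_comp π hπ (fun a => ∏ i, fb i (a i))]
  have h2 : ∑ a : (∀ i, A i), ∏ i, fb i (a i) = ∏ i, ∑ a : A i, fb i a := by
    rw [Finset.prod_univ_sum, Fintype.piFinset_univ]
  have h3 : ∀ i, ∑ u : ↥U, f i u = ((Fintype.card ↥U : ℂ) / Fintype.card (A i)) * ∑ a : A i, fb i a := by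
    intro i
    rw [← sum_comp (QuotientGroup.mk' ((D i).subgroupOf U)) (QuotientGroup.mk'_surjective _) (fb i)]
    exact Finset.sum_congr rfl fun u _ => (hfb i u).symm
  have h4 : ∀ i, (∑ u : ↥U, f i u) / (Fintype.card ↥U : ℂ) = (Fintype.card (A i) : ℂ)⁻¹ * ∑ a : A i, fb i a := by
    intro i
    rw [h3 i]
    field_simp
  rw [h2, Finset.prod_congr rfl fun i _ => h4 i, Finset.prod_mul_distrib, Fintype.card_pi, Finset.prod_inv_distrib]
  push_cast
  ring

/-- transitivity on the elements of given support -/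
theorem tr' [Finite I] (H : Sys U T D) : ∀ (m : ℕ) (a : Y), a ∈ U → ∀ b ∈ U, {i | a ∈ D i}.ncard = m →
    (∀ i, a ∈ D i ↔ b ∈ D i) → ∃ t ∈ T, ∀ i, (t⁻¹ * a * t)⁻¹ * b ∈ D i := by
  intro m
  induction m with
  | zero =>
    intro a ha b hb hm hab
    rw [Set.ncard_eq_zero (Set.toFinite _), Set.eq_empty_iff_forall_notMem] at hm
    exact H.tr a ha b hb hm fun i hi => hm i ((hab i).2 hi)
  | succ m ih =>
    intro a ha b hb hm hab
    have hne : {i | a ∈ D i}.Nonempty := by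
      rw [← Set.ncard_pos (Set.toFinite _), hm]; exact Nat.succ_pos m
    obtain ⟨i, hi⟩ := hne
    have hi' : a ∈ D i := hi
    obtain ⟨c, hc, hcD⟩ := H.ne i
    obtain ⟨x, hx, hx1, hx2⟩ := H.co i c hc
    have hxD : x ∉ D i := fun h1 => hcD ((Subgroup.mul_mem_cancel_left _ (inv_mem h1)).1 hx1)
    have hs : ∀ z ∈ U, z ∈ D i → ∀ j, z * x ∈ D j ↔ (z ∈ D j ∧ j ≠ i) := by
      intro z _ hz j
      by_cases hj : j = i
      · subst hj
        refine ⟨fun h1 => absurd ((Subgroup.mul_mem_cancel_left _ hz).1 h1) hxD, fun h1 => absurd rfl h1.2⟩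
      · rw [Subgroup.mul_mem_cancel_right _ (hx2 j hj)]
        exact ⟨fun h1 => ⟨h1, hj⟩, fun h1 => h1.1⟩
    have hbi : b ∈ D i := (hab i).1 hi
    have hcard : {j | a * x ∈ D j}.ncard = m := by
      have h1 : {j | a * x ∈ D j} = {j | a ∈ D j} \ {i} := by
        ext j
        exact hs a ha hi' j
      rw [h1, Set.ncard_sdiff_singleton_of_mem hi, hm]
      rfl
    obtain ⟨t, ht, h⟩ := ih (a * x) (mul_mem ha hx) (b * x) (mul_mem hb hx) hcard (fun j => by
      rw [hs a ha hi', hs b hb hbi, hab j])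
    refine ⟨t, ht, fun j => ?_⟩
    by_cases hj : j = i
    · subst hj
      exact mul_mem (inv_mem ((H.conj_D_iff ht j).2 hi')) hbi
    · have e : (t⁻¹ * a * t)⁻¹ * b = (t⁻¹ * x * t) * ((t⁻¹ * (a * x) * t)⁻¹ * (b * x)) * x⁻¹ := by group
      rw [e]
      exact mul_mem (mul_mem ((H.conj_D_iff ht j).2 (hx2 j hj)) (h j)) (inv_mem (hx2 j hj))

open Classical in
/-- the elements with the same support as `u` -/
noncomputable def Same (U : Subgroup Y) (D : I → Subgroup Y) [Fintype U] (u : Y) : Finset ↥U :=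
  Finset.univ.filter fun v : U => ∀ i, (v : Y) ∈ D i ↔ u ∈ D i

theorem mem_Same [Fintype U] {u : Y} {v : U} : v ∈ Same U D u ↔ ∀ i, (v : Y) ∈ D i ↔ u ∈ D i := by
  classical
  unfold Same
  rw [Finset.mem_filter]
  exact ⟨fun h => h.2, fun h => ⟨Finset.mem_univ _, h⟩⟩

/-- conjugation by `t ∈ T` on `U` -/
def cjT (H : Sys U T D) {t : Y} (ht : t ∈ T) : ↥U ≃ ↥U where
  toFun u := ⟨t⁻¹ * u * t, H.conj_U ht u.2⟩
  invFun u := ⟨t * u * t⁻¹, H.conj_U' ht u.2⟩
  left_inv u := Subtype.ext (by simp only; group)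
  right_inv u := Subtype.ext (by simp only; group)

/-- **Averages over `T`.** -/
theorem avg [Finite Y] [Finite I] (H : Sys U T D) [Fintype U] [Fintype T] {F : Y → ℂ}
    (hF : ∀ u ∈ U, ∀ d ∈ U, (∀ i, d ∈ D i) → F (u * d) = F u) {u : Y} (hu : u ∈ U) :
    ((Same U D u).card : ℂ) * ∑ t : T, F ((t : Y)⁻¹ * u * t) = (Fintype.card T : ℂ) * ∑ v ∈ Same U D u, F v := by
  classical
  -- the average is constant
  have h1 : ∀ v ∈ Same U D u, ∑ t : T, F ((t : Y)⁻¹ * v * t) = ∑ t : T, F ((t : Y)⁻¹ * u * t) := by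
    intro v hv
    rw [mem_Same] at hv
    obtain ⟨s, hs, h⟩ := H.tr' _ u hu v v.2 rfl fun i => (hv i).symm
    have h2 : ∀ t : T, F ((t : Y)⁻¹ * v * t) = F ((((⟨s, hs⟩ : T) * t : T) : Y)⁻¹ * u * (((⟨s, hs⟩ : T) * t : T) : Y)) := by
      intro t
      have e : (t : Y)⁻¹ * v * t = ((((⟨s, hs⟩ : T) * t : T) : Y)⁻¹ * u * (((⟨s, hs⟩ : T) * t : T) : Y)) *
          ((t : Y)⁻¹ * ((s⁻¹ * u * s)⁻¹ * v) * t) := by
        simp only [Subgroup.coe_mul]
        group
      rw [e]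
      refine hF _ (H.conj_U (Subtype.prop _) hu) _ (H.conj_U t.2 (mul_mem (inv_mem (H.conj_U hs hu)) v.2)) ?_
      intro i
      exact (H.conj_D_iff t.2 i).2 (h i)
    rw [Finset.sum_congr rfl fun t _ => h2 t]
    exact Equiv.sum_comp (Equiv.mulLeft (⟨s, hs⟩ : T)) (fun t : T => F ((t : Y)⁻¹ * u * t))
  have h2 : ∑ v ∈ Same U D u, ∑ t : T, F ((t : Y)⁻¹ * v * t) =
      ((Same U D u).card : ℂ) * ∑ t : T, F ((t : Y)⁻¹ * u * t) := by
    rw [Finset.sum_congr rfl h1, Finset.sum_const, nsmul_eq_mul]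
  rw [← h2, Finset.sum_comm]
  have h3 : ∀ t ∈ (Finset.univ : Finset T), ∑ v ∈ Same U D u, F ((t : Y)⁻¹ * v * t) = ∑ v ∈ Same U D u, F v := by
    intro t _
    refine Finset.sum_nbij' (fun v => H.cjT t.2 v) (fun v => (H.cjT t.2).symm v) ?_ ?_ ?_ ?_ ?_
    · intro v hv
      rw [mem_Same] at hv ⊢
      intro i
      rw [← hv i]
      exact H.conj_D_iff t.2 i
    · intro v hv
      rw [mem_Same] at hv ⊢
      intro i
      rw [← hv i, ← H.conj_D_iff (u := ((H.cjT t.2).symm v : Y)) t.2 i]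
      have : (t : Y)⁻¹ * ((H.cjT t.2).symm v : Y) * t = v := congrArg Subtype.val ((H.cjT t.2).apply_symm_apply v)
      rw [this]
    · intro v _; exact (H.cjT t.2).symm_apply_apply v
    · intro v _; exact (H.cjT t.2).apply_symm_apply v
    · intro v _; rfl
  rw [Finset.sum_congr rfl h3, Finset.sum_const, Finset.card_univ, nsmul_eq_mul]

theorem sum_conj (H : Sys U T D) [Fintype U] {t : Y} (ht : t ∈ T) (F : Y → ℂ) :
    ∑ u : U, F (t⁻¹ * u * t) = ∑ u : U, F u :=
  Equiv.sum_comp (H.cjT ht) (fun u : U => F u)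

/-- integrals of `T`-invariant functions -/
theorem sum_mul [Finite Y] [Finite I] (H : Sys U T D) [Fintype U] [Fintype T] {F φ : Y → ℂ}
    (hF : ∀ u ∈ U, ∀ d ∈ U, (∀ i, d ∈ D i) → F (u * d) = F u)
    (hφ : ∀ t ∈ T, ∀ u ∈ U, φ (t⁻¹ * u * t) = φ u) :
    ∑ u : U, φ u * F u = ∑ u : U, φ u * ((∑ v ∈ Same U D u, F v) / (Same U D u).card) := by
  classical
  have hT : (Fintype.card ↥T : ℂ) ≠ 0 := by
    have : 0 < Fintype.card ↥T := Fintype.card_pos
    exact_mod_cast this.ne'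
  have h1 : (Fintype.card T : ℂ) * ∑ u : U, φ u * F u = ∑ u : U, φ u * ∑ t : T, F ((t : Y)⁻¹ * u * t) := by
    have h2 : ∀ t : T, ∑ u : U, φ u * F u = ∑ u : U, φ u * F ((t : Y)⁻¹ * u * t) := by
      intro t
      rw [← H.sum_conj t.2 (fun y => φ y * F y)]
      refine Finset.sum_congr rfl fun u _ => ?_
      rw [hφ t t.2 u u.2]
    have h3 : (Fintype.card T : ℂ) * ∑ u : U, φ u * F u = ∑ t : T, ∑ u : U, φ u * F ((t : Y)⁻¹ * u * t) := by
      rw [← Finset.sum_congr rfl fun t _ => h2 t, Finset.sum_const, Finset.card_univ, nsmul_eq_mul]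
    rw [h3, Finset.sum_comm]
    exact Finset.sum_congr rfl fun u _ => (Finset.mul_sum _ _ _).symm
  have h4 : ∀ u : U, ∑ t : T, F ((t : Y)⁻¹ * u * t) =
      (Fintype.card T : ℂ) * ((∑ v ∈ Same U D u, F v) / (Same U D u).card) := by
    intro u
    have h5 := H.avg hF u.2
    have h6 : ((Same U D (u : Y)).card : ℂ) ≠ 0 := by
      have : 0 < (Same U D (u : Y)).card := Finset.card_pos.2 ⟨u, mem_Same.2 fun _ => Iff.rfl⟩
      exact_mod_cast this.ne'
    field_simp
    rw [← h5]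
    ring
  have h7 : ∑ u : U, φ u * ∑ t : T, F ((t : Y)⁻¹ * u * t) =
      ∑ u : U, φ u * ((Fintype.card T : ℂ) * ((∑ v ∈ Same U D u, F v) / (Same U D u).card)) :=
    Finset.sum_congr rfl fun u _ => by rw [h4 u]
  rw [h7] at h1
  have h5 : ∀ u : U, φ u * ((Fintype.card T : ℂ) * ((∑ v ∈ Same U D u, F v) / (Same U D u).card)) =
      (Fintype.card T : ℂ) * (φ u * ((∑ v ∈ Same U D u, F v) / (Same U D u).card)) := fun u => by ring
  rw [Finset.sum_congr rfl fun u _ => h5 u, ← Finset.mul_sum] at h1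
  exact mul_left_cancel₀ hT h1

open Classical in
/-- the regular elements of `U` -/
noncomputable def Reg (U : Subgroup Y) (D : I → Subgroup Y) [Fintype U] : Finset ↥U :=
  Finset.univ.filter fun v : U => ∀ i, (v : Y) ∉ D i

theorem mem_Reg [Fintype U] {v : U} : v ∈ Reg U D ↔ ∀ i, (v : Y) ∉ D i := by
  classical
  unfold Reg
  rw [Finset.mem_filter]
  exact ⟨fun h => h.2, fun h => ⟨Finset.mem_univ _, h⟩⟩

theorem same_eq_reg [Fintype U] {u : U} (hu : u ∈ Reg U D) : Same U D (u : Y) = Reg U D := by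
  ext v
  rw [mem_Same, mem_Reg]
  rw [mem_Reg] at hu
  exact ⟨fun h i hi => hu i ((h i).1 hi), fun h i => ⟨fun h1 => absurd h1 (h i), fun h1 => absurd h1 (hu i)⟩⟩

theorem same_of_not_reg [Fintype U] {u : U} (hu : u ∉ Reg U D) {v : U} (hv : v ∈ Same U D (u : Y)) : v ∉ Reg U D := by
  intro h1
  apply hu
  rw [mem_Reg] at h1 ⊢
  rw [mem_Same] at hv
  exact fun i hi => h1 i ((hv i).2 hi)

/-- **integrals against functions supported on the regular elements** -/
theorem reg_sum [Finite Y] [Finite I] (H : Sys U T D) [Fintype U] [Fintype T] {F φ : Y → ℂ}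
    (hF : ∀ u ∈ U, ∀ d ∈ U, (∀ i, d ∈ D i) → F (u * d) = F u)
    (hφ : ∀ t ∈ T, ∀ u ∈ U, φ (t⁻¹ * u * t) = φ u) (h0 : ∀ u : U, u ∉ Reg U D → F u = 0) :
    ∑ u : U, φ u * F u = ((∑ u : U, F u) / (Reg U D).card) * ∑ u ∈ Reg U D, φ u := by
  classical
  rw [H.sum_mul hF hφ]
  have h1 : ∑ u : U, F u = ∑ u ∈ Reg U D, F u :=
    (Finset.sum_subset (Finset.subset_univ _) fun u _ hu => h0 u hu).symm
  have h2 : ∑ u : U, φ u * ((∑ v ∈ Same U D u, F v) / (Same U D u).card) =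
      ∑ u ∈ Reg U D, φ u * ((∑ v ∈ Same U D u, F v) / (Same U D u).card) := by
    refine (Finset.sum_subset (Finset.subset_univ _) fun u _ hu => ?_).symm
    rw [Finset.sum_eq_zero fun v hv => h0 v (same_of_not_reg hu hv), zero_div, mul_zero]
  rw [h2, h1, Finset.mul_sum]
  refine Finset.sum_congr rfl fun u hu => ?_
  rw [same_eq_reg hu, mul_comm]

/-- the average over `T` at a regular element -/
theorem reg_avg [Finite Y] [Finite I] (H : Sys U T D) [Fintype U] [Fintype T] {F : Y → ℂ}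
    (hF : ∀ u ∈ U, ∀ d ∈ U, (∀ i, d ∈ D i) → F (u * d) = F u) (h0 : ∀ u : U, u ∉ Reg U D → F u = 0)
    {u : U} (hu : u ∈ Reg U D) :
    ∑ t : T, F ((t : Y)⁻¹ * u * t) = (Fintype.card T : ℂ) * ((∑ u : U, F u) / (Reg U D).card) := by
  classical
  have h1 : ∑ u : U, F u = ∑ u ∈ Reg U D, F u :=
    (Finset.sum_subset (Finset.subset_univ _) fun u _ hu => h0 u hu).symm
  have h2 := H.avg hF u.2
  rw [same_eq_reg hu, ← h1] at h2
  have h6 : ((Reg U D).card : ℂ) ≠ 0 := by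
    have : 0 < (Reg U D).card := Finset.card_pos.2 ⟨u, hu⟩
    exact_mod_cast this.ne'
  field_simp
  rw [← h2]
  ring

end Sys

end Cfsg.Agent.H40.OC
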