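import Cfsg.Agent.H40.OC.Lin

/-!
# The fixed points of the second term (S4884, own characteristic; helper40)

`sum_mean` : `∑_J ∏_{i ∈ J} (q_i - 1) [φ, ψ_J]` is the mean of `φ` over `⋂ D i`.
-/

set_option autoImplicit false

open scoped ComplexConjugate
open Cfsg

namespace Cfsg.Agent.H40.OC

open Cfsg.Agent.OddOrderCharacters.Clifford

variable {I Y : Type*} [Group Y] {U T : Subgroup Y} {D : I → Subgroup Y}

open Classical in
/-- the elements of `U` with trivial coordinates -/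
noncomputable def Fx (U : Subgroup Y) (D : I → Subgroup Y) [Fintype U] : Finset ↥U :=
  Finset.univ.filter fun v : U => ∀ i, (v : Y) ∈ D i

theorem mem_Fx [Fintype U] {v : U} : v ∈ Fx U D ↔ ∀ i, (v : Y) ∈ D i := by
  classical
  unfold Fx
  rw [Finset.mem_filter]
  exact ⟨fun h => h.2, fun h => ⟨Finset.mem_univ _, h⟩⟩

/-- the function `∏ (1 + (q_i - 1) conj lam)` -/
noncomputable def bigF (U : Subgroup Y) (D : I → Subgroup Y) [Fintype I] (lam : I → (↥U →* ℂˣ)) (u : ↥U) : ℂ :=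
  ∏ i, (1 + ((qi U D i : ℂ) - 1) * conj (lam i u : ℂ))

theorem bigF_fx [Fintype I] [Fintype U] {lam : I → (↥U →* ℂˣ)} (hl : Lam U D lam) {u : ↥U} (hu : u ∈ Fx U D) :
    bigF U D lam u = ∏ i, (qi U D i : ℂ) := by
  unfold bigF
  rw [mem_Fx] at hu
  refine Finset.prod_congr rfl fun i _ => ?_
  rw [hl.one i u (hu i)]
  simp

theorem sum_same [Finite Y] [Fintype I] (H : Sys U T D) [Fintype U] {lam : I → (↥U →* ℂˣ)}
    (hl : Lam U D lam) {u : Y} {i : I} (hu : u ∉ D i) : ∑ v ∈ Sys.Same U D u, bigF U D lam v = 0 := by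
  classical
  have h1 : ∑ v ∈ Sys.Same U D u, bigF U D lam v =
      ∑ v : U, ∏ j, (if ((v : Y) ∈ D j ↔ u ∈ D j) then (1 + ((qi U D j : ℂ) - 1) * conj (lam j v : ℂ)) else 0) := by
    unfold Sys.Same
    rw [Finset.sum_filter]
    refine Finset.sum_congr rfl fun v _ => ?_
    split_ifs with h2
    · exact Finset.prod_congr rfl fun j _ => by rw [if_pos (h2 j)]
    · push Not at h2
      obtain ⟨j, hj⟩ := h2
      rw [Finset.prod_eq_zero (Finset.mem_univ j)]
      rw [if_neg]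
      intro h3
      rcases hj with hj | hj
      · exact hj.2 (h3.1 hj.1)
      · exact hj.1 (h3.2 hj.2)
  rw [h1, H.sum_prod' (fun j (v : ↥U) => if ((v : Y) ∈ D j ↔ u ∈ D j) then
    (1 + ((qi U D j : ℂ) - 1) * conj (lam j v : ℂ)) else 0) (by
      intro j v d hd
      simp only [Subgroup.coe_mul, Subgroup.mul_mem_cancel_right _ hd, hl.mul hd])]
  rw [Finset.prod_eq_zero (Finset.mem_univ i), mul_zero]
  have h2 : ∀ v : U, (if ((v : Y) ∈ D i ↔ u ∈ D i) then (1 + ((qi U D i : ℂ) - 1) * conj (lam i v : ℂ)) else 0) =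
      (1 + ((qi U D i : ℂ) - 1) * conj (lam i v : ℂ)) - (qi U D i : ℂ) * (if (v : Y) ∈ D i then (1 : ℂ) else 0) := by
    intro v
    by_cases hv : (v : Y) ∈ D i
    · rw [if_neg (fun h => hu (h.1 hv)), if_pos hv, hl.one i v hv]
      simp
    · rw [if_pos ⟨fun h => absurd h hv, fun h => absurd h hu⟩, if_neg hv]
      ring
  rw [Finset.sum_congr rfl fun v _ => h2 v, Finset.sum_sub_distrib, Finset.sum_add_distrib, ← Finset.mul_sum,
    ← Finset.mul_sum, sum_conj_lam (hl.ne i), sum_ind H i, Finset.sum_const, Finset.card_univ, nsmul_eq_mul,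
    mul_zero, add_zero, mul_one, qi_mul H i, Nat.card_eq_fintype_card, sub_self, zero_div]

/-- **the mean over the elements with trivial coordinates** -/
theorem sum_mean [Finite Y] [Fintype I] (H : Sys U T D) [Fintype U] [Fintype T] {lam : I → (↥U →* ℂˣ)}
    (hl : Lam U D lam) {φ : Y → ℂ} (hφ : ∀ t ∈ T, ∀ u ∈ U, φ (t⁻¹ * u * t) = φ u) :
    ∑ J : Finset I, (∏ i ∈ J, ((qi U D i : ℂ) - 1)) *
      classInner (fun u : U => φ u) (fun u : U => (psi lam J u : ℂ)) =
    (Fintype.card U : ℂ)⁻¹ * ((∏ i, (qi U D i : ℂ)) * ∑ u ∈ Fx U D, φ u) := by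
  classical
  have h1 : ∑ u : U, φ u * bigF U D lam u = (∏ i, (qi U D i : ℂ)) * ∑ u ∈ Fx U D, φ u := by
    have h2 := H.sum_mul (F := extendByZero U (bigF U D lam)) (φ := φ)
      (ext_mul fun u d hd => Finset.prod_congr rfl fun i _ => by rw [hl.mul (hd i)]) hφ
    simp only [ext_apply_coe] at h2
    rw [h2, Finset.mul_sum]
    symm
    rw [← Finset.sum_subset (Finset.subset_univ (Fx U D))]
    · refine Finset.sum_congr rfl fun u hu => ?_
      have h3 : ∀ v ∈ Sys.Same U D (u : Y), bigF U D lam v = ∏ i, (qi U D i : ℂ) := by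
        intro v hv
        refine bigF_fx hl ?_
        rw [mem_Fx] at hu ⊢
        intro i
        exact (Sys.mem_Same.1 hv i).2 (hu i)
      have h4 : ((Sys.Same U D (u : Y)).card : ℂ) ≠ 0 := by
        have : 0 < (Sys.Same U D (u : Y)).card := Finset.card_pos.2 ⟨u, Sys.mem_Same.2 fun _ => Iff.rfl⟩
        exact_mod_cast this.ne'
      rw [Finset.sum_congr rfl h3, Finset.sum_const, nsmul_eq_mul, mul_div_cancel_left₀ _ h4, mul_comm]
    · intro u _ hu
      rw [mem_Fx] at hu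
      push Not at hu
      obtain ⟨i, hi⟩ := hu
      rw [sum_same H hl hi, zero_div, mul_zero]
  rw [← h1]
  have h3 : ∀ u : U, φ u * bigF U D lam u =
      ∑ J : Finset I, (∏ i ∈ J, ((qi U D i : ℂ) - 1)) * (φ u * conj (psi lam J u : ℂ)) := by
    intro u
    unfold bigF
    rw [Finset.prod_one_add, Finset.mul_sum, Finset.powerset_univ]
    refine Finset.sum_congr rfl fun J _ => ?_
    rw [psi_apply, map_prod, Finset.prod_mul_distrib]
    ring
  rw [Finset.sum_congr rfl fun u _ => h3 u, Finset.sum_comm, Finset.mul_sum]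
  refine Finset.sum_congr rfl fun J _ => ?_
  rw [classInner_apply, Nat.card_eq_fintype_card, ← Finset.mul_sum]
  ring

theorem card_Fx [Finite Y] [Fintype I] (H : Sys U T D) [Fintype U] :
    ((Fx U D).card : ℂ) * ∏ i, (qi U D i : ℂ) = Fintype.card U := by
  classical
  have h1 := H.sum_prod' (fun i (u : ↥U) => if (u : Y) ∈ D i then (1 : ℂ) else 0) (by
    intro i u d hd
    simp only [Subgroup.coe_mul, Subgroup.mul_mem_cancel_right _ hd])
  have h2 : ∀ i, (∑ u : U, (if (u : Y) ∈ D i then (1 : ℂ) else 0)) / (Fintype.card U : ℂ) = (qi U D i : ℂ)⁻¹ := by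
    intro i
    rw [sum_ind H i, ← Nat.card_eq_fintype_card, div_card H i]
  rw [Finset.prod_congr rfl fun i _ => h2 i] at h1
  have h3 : ∑ u : U, ∏ i, (if (u : Y) ∈ D i then (1 : ℂ) else 0) = (Fx U D).card := by
    rw [Finset.card_eq_sum_ones, Nat.cast_sum]
    unfold Fx
    rw [Finset.sum_filter]
    refine Finset.sum_congr rfl fun u _ => ?_
    split_ifs with h3
    · rw [Finset.prod_eq_one fun i _ => if_pos (h3 i), Nat.cast_one]
    · push Not at h3
      obtain ⟨i, hi⟩ := h3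
      rw [Finset.prod_eq_zero (Finset.mem_univ i) (if_neg hi)]
  rw [← h3, h1, Finset.prod_inv_distrib, mul_assoc, inv_mul_cancel₀, mul_one]
  rw [Finset.prod_ne_zero_iff]
  exact fun i _ => qi_ne H i

/-- the mean of `φ` over the elements with trivial coordinates -/
theorem sum_mean' [Finite Y] [Fintype I] (H : Sys U T D) [Fintype U] [Fintype T] {lam : I → (↥U →* ℂˣ)}
    (hl : Lam U D lam) {φ : Y → ℂ} (hφ : ∀ t ∈ T, ∀ u ∈ U, φ (t⁻¹ * u * t) = φ u) :
    ∑ J : Finset I, (∏ i ∈ J, ((qi U D i : ℂ) - 1)) *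
      classInner (fun u : U => φ u) (fun u : U => (psi lam J u : ℂ)) =
    (∑ u ∈ Fx U D, φ u) / (Fx U D).card := by
  have h0 : ((Fx U D).card : ℂ) ≠ 0 := by
    have : 0 < (Fx U D).card := Finset.card_pos.2 ⟨1, mem_Fx.2 fun i => one_mem _⟩
    exact_mod_cast this.ne'
  have h1 : ∏ i, (qi U D i : ℂ) ≠ 0 := by
    rw [Finset.prod_ne_zero_iff]
    exact fun i _ => qi_ne H i
  rw [sum_mean H hl hφ, ← card_Fx H]
  field_simp

end Cfsg.Agent.H40.OC
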