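import Cfsg.Agent.H40.OC.Inst

/-!
# The virtual character `Xi` (S4884, own characteristic; helper40)

`mG R D χ` : the mean of `χ` over the regular elements of `U`; `Xi R D lam = Ind_U (∏ (1 - lam i))`.
* `Xi_apply` : `Xi = (|T| |U| / |Reg|) 1_Reg`;
* `classInner_Xi` : `[χ, Xi] = mG χ`.
-/

set_option autoImplicit false

open scoped ComplexConjugate
open Cfsg

namespace Cfsg.Agent.H40.OC

open Cfsg.Agent.OddOrderCharacters.Clifford Cfsg.Agent.Characters
open Cfsg.Agent.H53.HC Cfsg.Agent.H641.Gow Cfsg.Agent.H148.GG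

open CoxeterSystem Cfsg.Agent.ChevalleyStructure.CoxeterGeom Cfsg.Agent.Tits.Roots Cfsg.Agent.Tits.Core
  Cfsg.Agent.Tits.Exchange Cfsg.Agent.Nodes.Reps Cfsg.Agent.Nodes.BNOf Cfsg.Agent.Nodes.StabComb
  Cfsg.Agent.Nodes.Bruhat Cfsg.Agent.Nodes.OppDec Cfsg.Agent.Nodes.LeviDec

variable {I W Y : Type*} [Fintype I] [DecidableEq I] [Group W] [Group Y] {M : CoxeterMatrix I}
  {cs : CoxeterSystem M W} {A : I → I → ℤ} {h : IsCartan M A} {p : ℕ} {T : Subgroup Y} {n : I → Y}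
  {X : (I → ℤ) → Subgroup Y}

variable (R : RGD cs h p T n X) {F : I → Type*} [∀ i, Field (F i)] (D : Adj T X F)

/-- the system of kernels of `U` -/
noncomputable abbrev DU [Finite W] : I → Subgroup Y := fun i => DV R D (UU cs h X) i

/-- the mean over the regular elements of `U` -/
noncomputable def mG [Finite W] [Finite Y] (χ : Y → ℂ) : ℂ := by
  classical exact (letI : Fintype (UU cs h X) := Fintype.ofFinite _; mr (UU cs h X) (DU R D) χ)

theorem mG_eq [Finite W] [Finite Y] [Fintype (UU cs h X)] (χ : Y → ℂ) : mG R D χ = mr (UU cs h X) (DU R D) χ := by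
  unfold mG
  congr
  exact Subsingleton.elim _ _

/-- the regular elements of `U` -/
def IsReg [Finite W] (u : Y) : Prop := ∃ hu : u ∈ UU cs h X, ∀ i, co R D i ⟨u, hu⟩ ≠ 1

theorem mem_Reg_iff [Finite W] [Fintype (UU cs h X)] {u : ↥(UU cs h X)} :
    u ∈ Sys.Reg (UU cs h X) (DU R D) ↔ IsReg R D (u : Y) := by
  rw [Sys.mem_Reg]
  constructor
  · intro h1
    exact ⟨u.2, fun i hi => h1 i ((mem_DV' R D u.2 u.2).2 hi)⟩
  · rintro ⟨hu, h1⟩ i hi
    exact h1 i ((mem_DV' R D u.2 u.2).1 hi)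

theorem IsReg.mem_B [Finite W] {u g : Y} (hg : g ∈ GG cs h T X) (hu : IsReg R D u)
    (hgu : g⁻¹ * u * g ∈ RGD.B cs h T X) : g ∈ RGD.B cs h T X := by
  obtain ⟨h1, h2⟩ := hu
  exact mem_B_of_conj R hg h1 (fun i => cor_ne_one R D (h2 i)) hgu

include R in
/-- `U` is normal in `B` -/
theorem conj_B_U {b u : Y} (hb : b ∈ RGD.B cs h T X) (hu : u ∈ UU cs h X) : b⁻¹ * u * b ∈ UU cs h X := by
  have := (Subgroup.mem_normalizer_iff.1 (inv_mem (R.B_le_normalizer_U hb)) u).1 hu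
  rwa [inv_inv] at this

/-- the virtual character of `U` -/
noncomputable def xi (lam : I → (↥(UU cs h X) →* ℂˣ)) (u : ↥(UU cs h X)) : ℂ := ∏ i, (1 - (lam i u : ℂ))

theorem xi_conj (lam : I → (↥(UU cs h X) →* ℂˣ)) (u v : ↥(UU cs h X)) : xi lam (v⁻¹ * u * v) = xi lam u := by
  unfold xi
  refine Finset.prod_congr rfl fun i _ => ?_
  rw [map_mul, map_mul, map_inv, mul_comm, mul_inv_cancel_left]

/-- `Xi` -/
noncomputable def Xi [Fintype Y] (lam : I → (↥(UU cs h X) →* ℂˣ)) : Y → ℂ := indFun (UU cs h X) (xi lam)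

include R in
/-- a sum over `B` -/
theorem sum_B [Finite W] [Fintype Y] [Fintype T] [Fintype (UU cs h X)] [Fintype (RGD.B cs h T X)] (f : Y → ℂ) :
    ∑ b : RGD.B cs h T X, f b = ∑ t : T, ∑ v : UU cs h X, f (t * v) := by
  rw [← Finset.sum_product']
  symm
  refine Finset.sum_bij (fun (x : T × UU cs h X) _ => (⟨(x.1 : Y) * x.2, mul_mem (RGD.T_le_B x.1.2) (RGD.U_le_B x.2.2)⟩ :
    RGD.B cs h T X)) (fun _ _ => Finset.mem_univ _) ?_ ?_ (fun _ _ => rfl)
  · rintro ⟨t, v⟩ _ ⟨t', v'⟩ _ he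
    have h1 : (t : Y) * v = t' * v' := congrArg Subtype.val he
    have h2 : (t' : Y)⁻¹ * t = v' * (v : Y)⁻¹ := by
      rw [inv_mul_eq_iff_eq_mul, ← mul_assoc, ← h1, mul_inv_cancel_right]
    have h3 : (t' : Y)⁻¹ * t ∈ UU cs h X ⊓ T :=
      Subgroup.mem_inf.2 ⟨by rw [h2]; exact mul_mem v'.2 (inv_mem v.2), mul_mem (inv_mem t'.2) t.2⟩
    rw [U_inf_T R, Subgroup.mem_bot] at h3
    have h4 : (t : Y) = t' := (inv_mul_eq_one.1 h3).symm
    rw [h4, mul_right_inj] at h1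
    exact Prod.ext (Subtype.ext h4) (Subtype.ext h1)
  · rintro ⟨b, hb⟩ _
    obtain ⟨t, ht, v, hv, rfl⟩ := R.mem_B.1 hb
    exact ⟨(⟨t, ht⟩, ⟨v, hv⟩), Finset.mem_univ _, rfl⟩

/-- **the values of `Xi`** -/
theorem Xi_apply [Finite W] [Fintype Y] [Fintype T] [Fintype (UU cs h X)] (hG : GG cs h T X = ⊤)
    {lam : I → (↥(UU cs h X) →* ℂˣ)} (hl : Lam (UU cs h X) (DU R D) lam) {u : Y} (hu : IsReg R D u) :
    Xi lam u = (Fintype.card T : ℂ) * (Fintype.card (UU cs h X) / (Sys.Reg (UU cs h X) (DU R D)).card) := by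
  classical
  have huU : u ∈ UU cs h X := hu.1
  have H := sysU R D
  have : Fintype (RGD.B cs h T X) := Fintype.ofFinite _
  unfold Xi
  rw [Cfsg.Agent.Characters.Core.indFun_apply]
  rw [sum_eq_sum_subgroup (RGD.B cs h T X) (fun x => extendByZero (UU cs h X) (xi lam) (x⁻¹ * u * x)) (by
    intro x hx
    refine ext_apply_not_mem _ _ _ fun h1 => hx ?_
    exact IsReg.mem_B R D (by rw [hG]; exact Subgroup.mem_top x) hu (RGD.U_le_B h1))]
  rw [sum_B R (fun x => extendByZero (UU cs h X) (xi lam) (x⁻¹ * u * x))]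
  have h1 : ∀ (t : T) (v : UU cs h X), extendByZero (UU cs h X) (xi lam) (((t : Y) * v)⁻¹ * u * (t * v)) =
      extendByZero (UU cs h X) (xi lam) ((t : Y)⁻¹ * u * t) := by
    intro t v
    have h2 : (t : Y)⁻¹ * u * t ∈ UU cs h X := conj_B_U R (RGD.T_le_B t.2) huU
    have e : ((t : Y) * v)⁻¹ * u * (t * v) = (v : Y)⁻¹ * ((t : Y)⁻¹ * u * t) * v := by group
    rw [e, ext_apply_mem _ _ _ h2, ext_apply_mem _ _ _ (mul_mem (mul_mem (inv_mem v.2) h2) v.2)]
    exact xi_conj lam ⟨_, h2⟩ v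
  have h2 : ∀ t : T, ∑ v : UU cs h X, extendByZero (UU cs h X) (xi lam) (((t : Y) * v)⁻¹ * u * (t * v)) =
      (Fintype.card (UU cs h X) : ℂ) * extendByZero (UU cs h X) (xi lam) ((t : Y)⁻¹ * u * t) := by
    intro t
    rw [Finset.sum_congr rfl fun v _ => h1 t v, Finset.sum_const, Finset.card_univ, nsmul_eq_mul]
  rw [Finset.sum_congr rfl fun t _ => h2 t, ← Finset.mul_sum, Nat.card_eq_fintype_card, inv_mul_cancel_left₀ card_ne]
  have h3 := H.reg_avg (F := extendByZero (UU cs h X) (xi lam))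
    (ext_mul fun u d hd => Finset.prod_congr rfl fun i _ => by rw [hl.mul (hd i)]) (by
      intro v hv
      rw [ext_apply_coe]
      rw [Sys.mem_Reg] at hv
      push Not at hv
      obtain ⟨i, hi⟩ := hv
      refine Finset.prod_eq_zero (Finset.mem_univ i) ?_
      rw [hl.one i v hi]
      simp) (u := ⟨u, huU⟩) ((mem_Reg_iff R D).2 hu)
  rw [h3]
  congr 2
  simp only [ext_apply_coe]
  unfold xi
  rw [H.sum_prod' (fun i (u : ↥(UU cs h X)) => 1 - (lam i u : ℂ)) (by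
    intro i u d hd
    simp only [hl.mul hd])]
  have h2 : ∀ i, (∑ u : UU cs h X, (1 - (lam i u : ℂ))) / (Fintype.card (UU cs h X) : ℂ) = 1 := by
    intro i
    rw [Finset.sum_sub_distrib, sum_lam (hl.ne i), sub_zero, Finset.sum_const, Finset.card_univ, nsmul_eq_mul,
      mul_one, div_self card_ne]
  rw [Finset.prod_congr rfl fun i _ => h2 i, Finset.prod_const_one, mul_one]

/-- `Xi` vanishes off the regular elements -/
theorem Xi_eq_zero [Finite W] [Fintype Y] {lam : I → (↥(UU cs h X) →* ℂˣ)} (hl : Lam (UU cs h X) (DU R D) lam) {g : Y}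
    (hg : ∀ x, ¬ IsReg R D (x⁻¹ * g * x)) : Xi lam g = 0 := by
  classical
  unfold Xi
  rw [Cfsg.Agent.Characters.Core.indFun_apply, Finset.sum_eq_zero, mul_zero]
  intro x _
  by_cases h1 : x⁻¹ * g * x ∈ UU cs h X
  · rw [ext_apply_mem _ _ _ h1]
    have h2 := hg x
    unfold IsReg at h2
    push Not at h2
    obtain ⟨i, hi⟩ := h2 h1
    refine Finset.prod_eq_zero (Finset.mem_univ i) ?_
    rw [hl.one i _ ((mem_DV' R D h1 h1).2 hi)]
    simp
  · exact ext_apply_not_mem _ _ _ h1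

theorem conj_T_of_class {χ : Y → ℂ} (hχ : IsClassFunction Y χ) (t u : Y) : χ (t⁻¹ * u * t) = χ u := by
  have := hχ u t⁻¹
  rwa [inv_inv] at this

/-- **the scalar product with `Xi`** -/
theorem classInner_Xi [Finite W] [Fintype Y] {lam : I → (↥(UU cs h X) →* ℂˣ)} (hl : Lam (UU cs h X) (DU R D) lam)
    {χ : Y → ℂ} (hχ : IsClassFunction Y χ) : classInner χ (Xi lam) = mG R D χ := by
  classical
  have : Fintype (UU cs h X) := Fintype.ofFinite _
  have : Fintype T := Fintype.ofFinite _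
  have H := sysU R D
  have h1 := classInner_indFun (UU cs h X) (xi lam) χ hχ
  have h2 := reg_sum_lam H hl (φ := χ) fun t _ u _ => conj_T_of_class hχ t u
  rw [← Core.classInner_conj_symm]
  unfold Xi
  rw [h1, Core.classInner_conj_symm, classInner_apply, mG_eq R D, Nat.card_eq_fintype_card]
  rw [← mul_right_inj' (card_ne (U := UU cs h X)), ← h2, mul_inv_cancel_left₀ card_ne]
  refine Finset.sum_congr rfl fun u _ => ?_
  unfold xi
  rw [map_prod]
  congr 1
  refine Finset.prod_congr rfl fun i _ => ?_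
  rw [map_sub, map_one]

end Cfsg.Agent.H40.OC
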